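import Groth.Agent.DRingComplete.Criterion
import Mathlib.Algebra.Homology.DerivedCategory.KProjective
import Mathlib.Algebra.Homology.DerivedCategory.SingleTriangle
import Mathlib.Algebra.Homology.DerivedCategory.FullyFaithful
import Mathlib.Algebra.Homology.DerivedCategory.HomologySequence
import Mathlib.Algebra.Homology.SingleHomology
import Mathlib.CategoryTheory.Triangulated.Pretriangulated

/-!
# Maps out of a projective module in `D(A)` and the homology criterion for derived completeness
-/

universe u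

open CategoryTheory Limits DerivedCategory HomologicalComplex Pretriangulated

namespace Groth.Agent.DRingComplete

attribute [local instance] HasDerivedCategory.standard

variable {A : Type u} [CommRing A]

theorem isKProjective_single (P : ModuleCat.{u} A) [Projective P] :
    CochainComplex.IsKProjective ((HomologicalComplex.single (ModuleCat.{u} A) (ComplexShape.up ℤ) 0).obj P) := by
  haveI : ∀ n : ℤ, Projective (((HomologicalComplex.single (ModuleCat.{u} A) (ComplexShape.up ℤ) 0).obj P).X n) := fun n => by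
    by_cases hn : n = 0
    · subst hn
      exact Projective.of_iso (HomologicalComplex.singleObjXSelf (ComplexShape.up ℤ) 0 P).symm inferInstance
    · constructor
      intro E X f e _
      exact ⟨0, (HomologicalComplex.isZero_single_obj_X (ComplexShape.up ℤ) 0 P n hn).eq_of_src _ _⟩
  haveI : CochainComplex.IsStrictlyLE ((HomologicalComplex.single (ModuleCat.{u} A) (ComplexShape.up ℤ) 0).obj P) 0 := by
    rw [CochainComplex.isStrictlyLE_iff]
    exact fun i hi => HomologicalComplex.isZero_single_obj_X (ComplexShape.up ℤ) 0 P i (by omega)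
  exact CochainComplex.isKProjective_of_projective _ 0

theorem exists_Q_map_eq (K L : CochainComplex (ModuleCat.{u} A) ℤ) [K.IsKProjective] (φ : Q.obj K ⟶ Q.obj L) :
    ∃ f : K ⟶ L, Q.map f = φ := by
  obtain ⟨g, hg⟩ := (CochainComplex.IsKProjective.Qh_map_bijective K _).surjective
    ((quotientCompQhIso _).hom.app K ≫ φ ≫ (quotientCompQhIso _).inv.app L)
  obtain ⟨f, rfl⟩ := (HomotopyCategory.quotient _ _).map_surjective g
  refine ⟨f, ?_⟩
  rw [← cancel_epi ((quotientCompQhIso _).hom.app K), ← quotientCompQhIso_hom_naturality, hg]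
  simp

/-- Maps from a projective in degree `0` are detected by `H⁰`. -/
theorem homology_map_bijective_Q (P : ModuleCat.{u} A) [Projective P] (L : CochainComplex (ModuleCat.{u} A) ℤ) :
    Function.Bijective (fun φ : Q.obj ((HomologicalComplex.single (ModuleCat.{u} A) (ComplexShape.up ℤ) 0).obj P) ⟶ Q.obj L =>
      (DerivedCategory.homologyFunctor (ModuleCat.{u} A) 0).map φ) := by
  haveI := isKProjective_single P
  let K : CochainComplex (ModuleCat.{u} A) ℤ := (HomologicalComplex.single (ModuleCat.{u} A) (ComplexShape.up ℤ) 0).obj P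
  let e := homologyFunctorFactors (ModuleCat.{u} A) 0
  let s : P ≅ K.cycles 0 := (singleObjCyclesSelfIso (ComplexShape.up ℤ) 0 P).symm
  have hs : s.hom ≫ K.iCycles 0 = (singleObjXSelf (ComplexShape.up ℤ) 0 P).inv :=
    singleObjCyclesSelfIso_inv_iCycles (ComplexShape.up ℤ) 0 P
  haveI : Epi (s.hom ≫ K.homologyπ 0) := epi_comp _ _
  constructor
  · intro φ ψ hφψ
    rw [← sub_eq_zero]
    have h0 : (DerivedCategory.homologyFunctor (ModuleCat.{u} A) 0).map (φ - ψ) = 0 := by
      rw [Functor.map_sub]; exact sub_eq_zero.2 hφψ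
    obtain ⟨f, hf⟩ := exists_Q_map_eq K L (φ - ψ)
    rw [← hf] at h0 ⊢
    have h1 : homologyMap f 0 = 0 := by
      have := e.hom.naturality f
      rw [show (Q ⋙ DerivedCategory.homologyFunctor (ModuleCat.{u} A) 0).map f = 0 from h0, zero_comp] at this
      refine (cancel_epi (e.hom.app K)).1 ?_
      exact this.symm.trans comp_zero.symm
    let z : P ⟶ L.cycles 0 := s.hom ≫ cyclesMap f 0
    have hz : z ≫ L.homologyπ 0 = 0 := by
      rw [Category.assoc, ← homologyπ_naturality, h1, comp_zero, comp_zero]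
    let S := ShortComplex.mk (L.toCycles (-1) 0) (L.homologyπ 0) (L.toCycles_comp_homologyπ _ _)
    have hS : S.Exact := S.exact_of_g_is_cokernel (L.homologyIsCokernel (-1) 0 (by simp))
    obtain ⟨t, ht⟩ : ∃ t : P ⟶ L.X (-1), t ≫ L.toCycles (-1) 0 = z :=
      ⟨hS.liftFromProjective z hz, hS.liftFromProjective_comp z hz⟩
    have hf0 : f.f 0 = (singleObjXSelf (ComplexShape.up ℤ) 0 P).hom ≫ t ≫ L.d (-1) 0 := by
      rw [← cancel_epi (singleObjXSelf (ComplexShape.up ℤ) 0 P).inv, Iso.inv_hom_id_assoc, ← toCycles_i,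
        reassoc_of% ht, Category.assoc, cyclesMap_i, reassoc_of% hs]
    let H : Homotopy f 0 :=
      { hom := fun i j => if h : i = 0 ∧ j = -1 then
          eqToHom (by rw [h.1]) ≫ (singleObjXSelf (ComplexShape.up ℤ) 0 P).hom ≫ t ≫ eqToHom (by rw [h.2]) else 0
        zero := fun i j hij => dif_neg fun h => hij (by simp [h.1, h.2])
        comm := fun i => by
          by_cases hi : i = 0
          · subst hi
            rw [dNext_eq _ (show (ComplexShape.up ℤ).Rel 0 1 by simp), prevD_eq _ (show (ComplexShape.up ℤ).Rel (-1) 0 by simp)]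
            simp [hf0]
          · exact (HomologicalComplex.isZero_single_obj_X (ComplexShape.up ℤ) 0 P i hi).eq_of_src _ _ }
    rw [← cancel_epi ((quotientCompQhIso _).hom.app K), ← quotientCompQhIso_hom_naturality,
      HomotopyCategory.eq_of_homotopy f 0 H]
    simp
  · intro h
    let h' : K.homology 0 ⟶ L.homology 0 := e.inv.app K ≫ h ≫ e.hom.app L
    let z : P ⟶ L.cycles 0 := Projective.factorThru (s.hom ≫ K.homologyπ 0 ≫ h') (L.homologyπ 0)
    let g : K ⟶ L := mkHomFromSingle (z ≫ L.iCycles 0) (fun k _ => by simp)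
    have hg : s.hom ≫ cyclesMap g 0 = z := by
      rw [← cancel_mono (L.iCycles 0), Category.assoc, cyclesMap_i, reassoc_of% hs]
      simp [g]
    have hh : homologyMap g 0 = h' := by
      rw [← cancel_epi (s.hom ≫ K.homologyπ 0), Category.assoc, homologyπ_naturality, reassoc_of% hg,
        Category.assoc]
      exact Projective.factorThru_comp _ _
    refine ⟨Q.map g, ?_⟩
    have := e.hom.naturality g
    rw [← cancel_mono (e.hom.app L)]
    refine this.trans ?_
    show e.hom.app K ≫ homologyMap g 0 = _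
    rw [hh]
    exact Iso.hom_inv_id_app_assoc e K (h ≫ e.hom.app L)

theorem homology_map_bijective (P : ModuleCat.{u} A) [Projective P] (X : Dual.D A) :
    Function.Bijective (fun φ : (DerivedCategory.singleFunctor (ModuleCat.{u} A) 0).obj P ⟶ X =>
      (DerivedCategory.homologyFunctor (ModuleCat.{u} A) 0).map φ) := by
  let e : (DerivedCategory.singleFunctor (ModuleCat.{u} A) 0).obj P ≅
      Q.obj ((HomologicalComplex.single (ModuleCat.{u} A) (ComplexShape.up ℤ) 0).obj P) :=
    ((SingleFunctors.evaluation _ _ 0).mapIso (singleFunctorsPostcompQIso (ModuleCat.{u} A))).app P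
  let i := Q.objObjPreimageIso X
  have h := homology_map_bijective_Q P (Q.objPreimage X)
  let H := DerivedCategory.homologyFunctor (ModuleCat.{u} A) 0
  constructor
  · intro φ ψ hφψ
    have := h.1 (a₁ := e.inv ≫ φ ≫ i.inv) (a₂ := e.inv ≫ ψ ≫ i.inv) (by
      simp only [Functor.map_comp] at hφψ ⊢
      simp only [hφψ])
    simpa using this
  · intro g
    obtain ⟨φ, hφ⟩ := h.2 (H.map e.inv ≫ g ≫ H.map i.inv)
    refine ⟨e.hom ≫ φ ≫ i.hom, ?_⟩
    show H.map _ = g
    rw [Functor.map_comp, Functor.map_comp, show H.map φ = _ from hφ]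
    simp
    exact Category.comp_id g

variable (A) in
/-- `H⁰` of a module placed in degree `0`. -/
noncomputable abbrev h0Iso :
    DerivedCategory.singleFunctor (ModuleCat.{u} A) 0 ⋙ DerivedCategory.homologyFunctor (ModuleCat.{u} A) 0 ≅
      𝟭 (ModuleCat.{u} A) :=
  singleFunctorCompHomologyFunctorIso (ModuleCat.{u} A) 0

/-- Precomposition in `D(A)` of maps between projectives is precomposition on `H⁰`. -/
theorem precomp_bijective_iff {P P' : ModuleCat.{u} A} [Projective P] [Projective P'] (d : P ⟶ P') (X : Dual.D A) :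
    Function.Bijective (fun φ : (DerivedCategory.singleFunctor (ModuleCat.{u} A) 0).obj P' ⟶ X =>
        (DerivedCategory.singleFunctor (ModuleCat.{u} A) 0).map d ≫ φ) ↔
      Function.Bijective (fun g : P' ⟶ (DerivedCategory.homologyFunctor (ModuleCat.{u} A) 0).obj X => d ≫ g) := by
  let H := DerivedCategory.homologyFunctor (ModuleCat.{u} A) 0
  have hE : ∀ (Q₀ : ModuleCat.{u} A) [Projective Q₀], Function.Bijective
      (fun φ : (DerivedCategory.singleFunctor (ModuleCat.{u} A) 0).obj Q₀ ⟶ X =>
        ((h0Iso A).inv.app Q₀ ≫ H.map φ : Q₀ ⟶ H.obj X)) := fun Q₀ _ =>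
    Function.Bijective.comp ⟨fun a b hab => (cancel_epi ((h0Iso A).inv.app Q₀)).1 hab,
      fun b => ⟨(h0Iso A).hom.app Q₀ ≫ b, Iso.inv_hom_id_app_assoc _ _ _⟩⟩ (homology_map_bijective Q₀ X)
  have hcomm : (fun g : P' ⟶ H.obj X => d ≫ g) ∘
      (fun φ : (DerivedCategory.singleFunctor (ModuleCat.{u} A) 0).obj P' ⟶ X => (h0Iso A).inv.app P' ≫ H.map φ)
    = (fun φ : (DerivedCategory.singleFunctor (ModuleCat.{u} A) 0).obj P ⟶ X => (h0Iso A).inv.app P ≫ H.map φ) ∘
      (fun φ => (DerivedCategory.singleFunctor (ModuleCat.{u} A) 0).map d ≫ φ) := by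
    funext φ
    have := (h0Iso A).inv.naturality d
    simp only [Function.comp_apply, Functor.map_comp]
    exact (reassoc_of% this) _
  rw [← Function.Bijective.of_comp_iff _ (hE P'), hcomm, Function.Bijective.of_comp_iff' (hE P)]

variable (f : A)

theorem comp_telD_bijective_iff (N : Type u) [AddCommGroup N] [Module A N] :
    Function.Bijective (fun g : ModuleCat.of A (ℕ →₀ A) ⟶ ModuleCat.of A N => ModuleCat.ofHom (telD f) ≫ g)
      ↔ Function.Bijective (tel f N) := by
  let E : (ModuleCat.of A (ℕ →₀ A) ⟶ ModuleCat.of A N) → (ℕ → N) := fun g i => g.hom (Finsupp.single i 1)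
  have hE : Function.Bijective E := by
    refine ⟨fun g g' h => ModuleCat.hom_ext (Finsupp.lhom_ext' fun i => LinearMap.ext_ring (congrFun h i)), fun x => ?_⟩
    exact ⟨ModuleCat.ofHom (Finsupp.linearCombination A x), funext fun i => by simp [E]⟩
  have hcomm : (tel f N) ∘ E = E ∘ (fun g : ModuleCat.of A (ℕ →₀ A) ⟶ ModuleCat.of A N => ModuleCat.ofHom (telD f) ≫ g) :=
    funext fun g => funext fun i => (comp_telD f (show (ℕ →₀ A) →ₗ[A] N from g.hom) i).symm
  rw [← Function.Bijective.of_comp_iff (tel f N) hE, hcomm, Function.Bijective.of_comp_iff' hE]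

/-- Vanishing of all maps from `A_f` is detected on homology. -/
theorem subsingleton_hom_away_iff (K : Dual.D A) :
    (∀ n : ℤ, Subsingleton (Dual.inD A (Localization.Away f) ⟶ K⟦n⟧)) ↔
      ∀ i : ℤ, Function.Bijective (tel f (Dual.HD A K i)) := by
  let T := (telSC_shortExact f).singleTriangle
  have hT := (telSC_shortExact f).singleTriangle_distinguished
  haveI : Projective (telSC f).X₂ :=
    (IsProjective.iff_projective (ModuleCat.of A (ℕ →₀ A))).1 inferInstance
  haveI : Projective (telSC f).X₁ :=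
    (IsProjective.iff_projective (ModuleCat.of A (ℕ →₀ A))).1 inferInstance
  have key : (∀ n : ℤ, Subsingleton (T.obj₃ ⟶ K⟦n⟧)) ↔
      ∀ n : ℤ, Function.Bijective (fun φ : T.obj₂ ⟶ K⟦n⟧ => T.mor₁ ≫ φ) := by
    constructor
    · intro h n
      constructor
      · intro φ ψ hφψ
        rw [← sub_eq_zero]
        obtain ⟨g, hg⟩ := T.yoneda_exact₂ hT (φ - ψ) (by rw [Preadditive.comp_sub]; exact sub_eq_zero.2 hφψ)
        rw [hg, (h n).elim g 0, comp_zero]
      · intro g
        have h0 : (T.invRotate).mor₁ ≫ g = 0 := by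
          apply (shiftFunctor (Dual.D A) (1 : ℤ)).map_injective
          rw [Functor.map_zero]
          have hs : Subsingleton (T.obj₃ ⟶ (K⟦n⟧)⟦(1 : ℤ)⟧) :=
            @Equiv.subsingleton _ _ (Iso.homCongr (Iso.refl _) ((shiftFunctorAdd (Dual.D A) n 1).app K)).symm (h (n + 1))
          exact (cancel_epi ((shiftEquiv (Dual.D A) (1 : ℤ)).counitIso.app T.obj₃).inv).1 (hs.elim _ _)
        obtain ⟨φ, hφ⟩ := T.invRotate.yoneda_exact₂ (inv_rot_of_distTriang _ hT) g h0
        exact ⟨φ, hφ.symm⟩
    · intro h n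
      refine subsingleton_of_forall_eq 0 fun g => ?_
      have hpg : T.mor₂ ≫ g = 0 := (h n).1 (by
        show T.mor₁ ≫ T.mor₂ ≫ g = T.mor₁ ≫ 0
        rw [← Category.assoc, comp_distTriang_mor_zero₁₂ _ hT, zero_comp, comp_zero])
      obtain ⟨k, rfl⟩ := T.yoneda_exact₃ hT g hpg
      -- write `k` as a shift
      let c : (K⟦n + -1⟧)⟦(1 : ℤ)⟧ ≅ K⟦n⟧ :=
        ((shiftFunctorAdd' (Dual.D A) (n + -1) 1 n (by omega)).app K).symm
      obtain ⟨k', hk'⟩ := (shiftFunctor (Dual.D A) (1 : ℤ)).map_surjective (k ≫ c.inv)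
      obtain ⟨φ, hφ⟩ := (h (n + -1)).2 k'
      simp only at hφ
      rw [← hφ, Functor.map_comp] at hk'
      have hk : k = (T.mor₁⟦(1 : ℤ)⟧' ≫ φ⟦(1 : ℤ)⟧') ≫ c.hom := by
        rw [hk', Category.assoc, Iso.inv_hom_id, Category.comp_id]
      rw [hk]
      simp only [← Category.assoc]
      rw [comp_distTriang_mor_zero₃₁ _ hT, zero_comp, zero_comp]
  refine key.trans (forall_congr' fun n => ?_)
  have hn : n + 0 = n := add_zero n
  let eH : (DerivedCategory.homologyFunctor (ModuleCat.{u} A) 0).obj (K⟦n⟧) ≅ ModuleCat.of A (Dual.HD A K n) :=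
    ((DerivedCategory.homologyFunctor (ModuleCat.{u} A) 0).shiftIso n 0 n hn).app K
  refine (precomp_bijective_iff (telSC f).f (K⟦n⟧)).trans ?_
  refine Iff.trans ?_ (comp_telD_bijective_iff f _)
  let E1 := (Iso.homCongr (Iso.refl (ModuleCat.of A (ℕ →₀ A))) eH)
  have hcomm : (fun g : ModuleCat.of A (ℕ →₀ A) ⟶ ModuleCat.of A (Dual.HD A K n) => ModuleCat.ofHom (telD f) ≫ g) ∘ E1
      = E1 ∘ (fun g => (telSC f).f ≫ g) := by
    funext g
    simp [E1, telSC]
  rw [← Function.Bijective.of_comp_iff _ E1.bijective, hcomm]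
  exact (Function.Bijective.of_comp_iff' E1.bijective _).symm

theorem isDerivedComplete_iff_homology (I : Ideal A) (K : Dual.D A) :
    DRing.IsDerivedComplete I K ↔ ∀ f ∈ I, ∀ i : ℤ, Function.Bijective (tel f (Dual.HD A K i)) := by
  constructor
  · exact fun h f hf => (subsingleton_hom_away_iff f K).1 (h f hf)
  · exact fun h f hf => (subsingleton_hom_away_iff f K).2 (h f hf)

end Groth.Agent.DRingComplete
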