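import Groth.Agent.DRingComplete.Modules
import Groth.Agent.DRingComplete.ProjHom
import Groth.Prelude.Def_DDual2
import Mathlib.Algebra.Homology.ShortComplex.PreservesHomology
import Mathlib.Algebra.Homology.ShortComplex.ModuleCat

/-!
The elements acting "completely" form a radical ideal; change of rings; pseudo-coherent objects.
-/

universe u

open CategoryTheory Limits

namespace Groth.Agent.DRingComplete

attribute [local instance] HasDerivedCategory.standard

variable {A : Type u} [CommRing A] {M : Type u} [AddCommGroup M] [Module A M]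

theorem bijective_tel_pi {g : A} (h : Function.Bijective (tel g M)) : Function.Bijective (tel g (ℕ → M)) := by
  refine ⟨fun x y hxy => funext fun i => funext fun j => ?_, fun y => ?_⟩
  · exact congrFun (h.1 (a₁ := fun i => x i j) (a₂ := fun i => y i j) (funext fun i => by
      simpa using congrFun (congrFun hxy i) j)) i
  · choose x hx using fun j => h.2 fun i => y i j
    exact ⟨fun i j => x j i, funext fun i => funext fun j => by simpa using congrFun (hx j) i⟩

/-- If each element of `l` acts completely then so does each element of the radical of their span. -/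
theorem bijective_of_mem_radical (l : List A) (hl : ∀ g ∈ l, Function.Bijective (tel g M)) {h : A}
    (hh : h ∈ (Ideal.span {a | a ∈ l}).radical) : Function.Bijective (tel h M) := by
  obtain ⟨n, hn⟩ := hh
  let φ := tel h M
  have hsT : ∀ x : LinearMap.ker φ, ∃ y : LinearMap.ker φ, h • y = x := by
    intro x
    refine ⟨⟨fun i => (x : ℕ → M) (i + 1), ?_⟩, Subtype.ext (funext fun i => ?_)⟩
    · exact funext fun i => congrFun x.2 (i + 1)
    · exact (sub_eq_zero.1 (congrFun x.2 i)).symm
  have hsC : ∀ y : (ℕ → M) ⧸ LinearMap.range φ, ∃ z, h • z = y := by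
    intro y
    obtain ⟨y, rfl⟩ := Submodule.Quotient.mk_surjective _ y
    refine ⟨Submodule.Quotient.mk fun i => y (i + 1), ?_⟩
    rw [← Submodule.Quotient.mk_smul, eq_comm, Submodule.Quotient.eq]
    exact ⟨y, funext fun i => by simp [φ]⟩
  have key : ∀ (T : Type u) [AddCommGroup T] [Module A T], (∀ g ∈ l, Function.Bijective (tel g T)) →
      (∀ x : T, ∃ y, h • y = x) → Subsingleton T := by
    intro T _ _ hT hs
    refine subsingleton_of_smul_eq_top l T hT fun x _ => ?_
    obtain ⟨y, hy⟩ : ∃ y, h ^ n • y = x := by
      clear hn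
      induction n generalizing x with
      | zero => exact ⟨x, by simp⟩
      | succ n ih =>
        obtain ⟨x', hx'⟩ := hs x
        obtain ⟨y, rfl⟩ := ih x' trivial
        exact ⟨y, by rw [pow_succ', ← smul_smul, hx']⟩
    exact hy ▸ Submodule.smul_mem_smul hn trivial
  haveI := key (LinearMap.ker φ) (fun g hg => bijective_ker φ g (bijective_tel_pi (hl g hg)) (bijective_tel_pi (hl g hg)).1) hsT
  haveI := key ((ℕ → M) ⧸ LinearMap.range φ)
    (fun g hg => bijective_coker φ g (bijective_tel_pi (hl g hg)).2 (bijective_tel_pi (hl g hg))) hsC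
  refine ⟨LinearMap.ker_eq_bot.1 ?_, LinearMap.range_eq_top.1 ?_⟩
  · exact (Submodule.eq_bot_iff _).2 fun x hx =>
      congrArg Subtype.val (Subsingleton.elim (⟨x, hx⟩ : LinearMap.ker φ) 0)
  · exact eq_top_iff.2 fun x _ =>
      (Submodule.Quotient.mk_eq_zero _).1 (Subsingleton.elim (Submodule.Quotient.mk x : (ℕ → M) ⧸ LinearMap.range φ) 0)

variable (M) in
/-- The ideal of elements acting completely. -/
def completeIdeal : Ideal A where
  carrier := {f | Function.Bijective (tel f M)}
  zero_mem' := bijective_of_mem_radical [] (by simp) (Ideal.zero_mem _)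
  add_mem' {a b} ha hb := bijective_of_mem_radical [a, b] (by
      intro g hg
      rcases List.mem_cons.1 hg with rfl | hg
      · exact ha
      · exact List.mem_singleton.1 hg ▸ hb)
    (Ideal.le_radical ((Ideal.span _).add_mem (Ideal.subset_span (by simp)) (Ideal.subset_span (by simp))))
  smul_mem' c {a} ha := bijective_of_mem_radical [a] (by simpa using ha)
    (Ideal.le_radical ((Ideal.span _).smul_mem c (Ideal.subset_span (by simp))))

theorem mem_completeIdeal {f : A} : f ∈ completeIdeal M ↔ Function.Bijective (tel f M) := Iff.rfl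

theorem completeIdeal_isRadical : (completeIdeal (A := A) M).IsRadical := fun h ⟨n, hn⟩ =>
  bijective_of_mem_radical [h ^ n] (by simpa using mem_completeIdeal.1 hn) ⟨n, Ideal.subset_span (by simp)⟩

theorem exists_radical_ideal (K : Dual.D A) :
    ∃ J : Ideal A, J.IsRadical ∧
      (J : Set A) = {f : A | ∀ n : ℤ, Subsingleton (Dual.inD A (Localization.Away f) ⟶ K⟦n⟧)} := by
  refine ⟨⨅ i : ℤ, completeIdeal (Dual.HD A K i), fun h hh => ?_, ?_⟩
  · rw [Submodule.mem_iInf]
    exact fun i => completeIdeal_isRadical (Ideal.radical_mono (iInf_le _ i) hh)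
  · ext f
    rw [SetLike.mem_coe, Submodule.mem_iInf, Set.mem_setOf_eq, subsingleton_hom_away_iff]
    rfl

theorem isDerivedComplete_iff_forall_inD (I : Ideal A) (K : Dual.D A) :
    DRing.IsDerivedComplete I K ↔ ∀ i : ℤ, DRing.IsDerivedComplete I (Dual.inD A (Dual.HD A K i)) := by
  rw [isDerivedComplete_iff_homology]
  exact ⟨fun h i => (isDerivedComplete_inD_iff _ I).2 fun f hf => h f hf i,
    fun h f hf i => (isDerivedComplete_inD_iff _ I).1 (h i) f hf⟩

section ChangeRings

variable {B : Type u} [CommRing B] (φ : A →+* B)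

/-- Homology commutes with restriction of scalars. -/
noncomputable def restrictHDIso (L : Dual.D B) (i : ℤ) :
    (DerivedCategory.homologyFunctor (ModuleCat.{u} A) i).obj ((DRing.restrictD φ).obj L) ≅
      (ModuleCat.restrictScalars.{u} φ).obj ((DerivedCategory.homologyFunctor (ModuleCat.{u} B) i).obj L) :=
  let L' := DerivedCategory.Q.objPreimage L
  let e := DerivedCategory.Q.objObjPreimageIso L
  (DerivedCategory.homologyFunctor (ModuleCat.{u} A) i).mapIso
      ((DRing.restrictD φ).mapIso e.symm ≪≫ (ModuleCat.restrictScalars.{u} φ).mapDerivedCategoryFactors.app L') ≪≫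
    (DerivedCategory.homologyFunctorFactors _ i).app _ ≪≫
    (L'.sc i).mapHomologyIso (ModuleCat.restrictScalars.{u} φ) ≪≫
    (ModuleCat.restrictScalars.{u} φ).mapIso ((DerivedCategory.homologyFunctorFactors _ i).app L').symm ≪≫
    (ModuleCat.restrictScalars.{u} φ).mapIso ((DerivedCategory.homologyFunctor _ i).mapIso e)

theorem tel_restrict_iff (N : ModuleCat.{u} B) (f : A) :
    Function.Bijective (tel f ((ModuleCat.restrictScalars.{u} φ).obj N)) ↔ Function.Bijective (tel (φ f) N) :=
  Iff.rfl

theorem isDerivedComplete_map_iff (I : Ideal A) (L : Dual.D B) :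
    DRing.IsDerivedComplete (I.map φ) L ↔ DRing.IsDerivedComplete I ((DRing.restrictD φ).obj L) := by
  simp only [isDerivedComplete_iff_homology]
  have h : ∀ (f : A) (i : ℤ), Function.Bijective (tel f (Dual.HD A ((DRing.restrictD φ).obj L) i)) ↔
      Function.Bijective (tel (φ f) (Dual.HD B L i)) := fun f i =>
    Iff.trans ⟨tel_linearEquiv (restrictHDIso φ L i).toLinearEquiv f,
      tel_linearEquiv (restrictHDIso φ L i).toLinearEquiv.symm f⟩ (tel_restrict_iff φ _ f)
  constructor
  · exact fun hI f hf i => (h f i).2 (hI _ (Ideal.mem_map_of_mem φ hf) i)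
  · intro hI g hg i
    have hle : I.map φ ≤ completeIdeal (Dual.HD B L i) := by
      rw [Ideal.map_le_iff_le_comap]
      exact fun f hf => (h f i).1 (hI f hf i)
    exact hle hg

end ChangeRings

theorem bijective_pi {ι : Type u} {f : A} (h : Function.Bijective (tel f A)) :
    Function.Bijective (tel f (ι → A)) := by
  refine ⟨fun x y hxy => funext fun i => funext fun j => ?_, fun y => ?_⟩
  · exact congrFun (h.1 (a₁ := fun i => x i j) (a₂ := fun i => y i j) (funext fun i => by
      simpa using congrFun (congrFun hxy i) j)) i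
  · choose x hx using fun j => h.2 fun i => y i j
    exact ⟨fun i j => x j i, funext fun i => funext fun j => by simpa using congrFun (hx j) i⟩

theorem isDerivedComplete_of_pseudoCoherent (I : Ideal A) (hA : DRing.IsDerivedComplete I (Dual.inD A A))
    (K : Dual.D A) (hK : DRing.IsPseudoCoherent' A K) : DRing.IsDerivedComplete I K := by
  classical
  obtain ⟨E, b, -, hff, ⟨e⟩⟩ := hK
  have hAf := (isDerivedComplete_inD_iff A I).1 hA
  have hterm : ∀ (j : ℤ) (f : A), f ∈ I → Function.Bijective (tel f (E.X j)) := fun j f hf => by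
    haveI := (hff j).1
    haveI := (hff j).2
    let bb := Module.Free.chooseBasis A (E.X j)
    haveI : Fintype (Module.Free.ChooseBasisIndex A (E.X j)) := inferInstance
    exact tel_linearEquiv bb.equivFun.symm f (bijective_pi (hAf f hf))
  refine (isDerivedComplete_iff_homology I K).2 fun f hf i => ?_
  let S := E.sc i
  let eH : S.homology ≅ ModuleCat.of A (Dual.HD A K i) :=
    ((DerivedCategory.homologyFunctorFactors _ i).app E).symm ≪≫ (DerivedCategory.homologyFunctor _ i).mapIso e
  refine tel_linearEquiv (S.moduleCatHomologyIso.symm ≪≫ eH).toLinearEquiv f ?_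
  have hker := bijective_ker S.g.hom f (hterm _ f hf) (hterm _ f hf).1
  exact bijective_coker S.moduleCatToCycles f (hterm _ f hf).2 hker

end Groth.Agent.DRingComplete
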