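import Groth.Agent.DRingTorAmp.Change
import Groth.Agent.DRingTorAmp.Triangle
import Groth.Agent.DRingComplete.Closure
import Mathlib.Algebra.Homology.DerivedCategory.Linear
import Mathlib.Algebra.Module.Torsion.Basic
import Groth.Agent.ModModel.Basic

/-!
# Derived Nakayama for derived complete objects
-/

universe u

open CategoryTheory Limits Pretriangulated MonoidalCategory HomologicalComplex
open scoped TensorProduct

namespace Groth.Agent.DRingComplete

attribute [local instance] HasDerivedCategory.standard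

set_option linter.style.haveILetI false

open Groth.Agent.DRingKFlat Groth.Agent.DRingTorAmp Groth.Agent.DRingKProj

variable {A : Type u} [CommRing A]

theorem isDerivedComplete_obj₃ {I : Ideal A} (T : Triangle (Dual.D A)) (hT : T ∈ distTriang _)
    (h₁ : DRing.IsDerivedComplete I T.obj₁) (h₂ : DRing.IsDerivedComplete I T.obj₂) :
    DRing.IsDerivedComplete I T.obj₃ := fun f hf n => by
  have hT' := Triangle.shift_distinguished _ hT n
  refine subsingleton_of_forall_eq 0 fun x => ?_
  have h1 : Subsingleton (Dual.inD A (Localization.Away f) ⟶ (T.obj₁⟦n⟧)⟦(1 : ℤ)⟧) := by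
    haveI := h₁ f hf (n + 1)
    exact (Iso.homCongr (Iso.refl _) ((shiftFunctorAdd (Dual.D A) n 1).app T.obj₁)).symm.subsingleton
  obtain ⟨y, rfl⟩ := Triangle.coyoneda_exact₃ _ hT' x (h1.elim _ _)
  obtain rfl : y = 0 := (h₂ f hf n).elim _ _
  exact zero_comp

variable {P : DRing.Cx A}

/-- `P ⊗ u` for a map of modules. -/
noncomputable def tenMap (P : DRing.Cx A) {N N' : ModuleCat.{u} A} (u : N ⟶ N') :
    DRing.tensorCx P N ⟶ DRing.tensorCx P N' where
  f i := ModuleCat.ofHom (u.hom.lTensor (P.X i))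
  comm' i j _ := ModuleCat.hom_ext (TensorProduct.ext' fun x n => rfl)

theorem tenMap_shortExact (hP : DRing.TermwiseFlat P) {N₁ N₂ N₃ : ModuleCat.{u} A} (u : N₁ ⟶ N₂) (v : N₂ ⟶ N₃)
    (hu : Function.Injective u.hom) (huv : Function.Exact u.hom v.hom) (hv : Function.Surjective v.hom) :
    ∃ h : tenMap P u ≫ tenMap P v = 0, (ShortComplex.mk (tenMap P u) (tenMap P v) h).ShortExact := by
  have h0 : tenMap P u ≫ tenMap P v = 0 := HomologicalComplex.hom_ext _ _ fun i =>
    ModuleCat.hom_ext (TensorProduct.ext' fun x n => by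
      show x ⊗ₜ[A] v.hom (u.hom n) = 0
      rw [huv.apply_apply_eq_zero n, TensorProduct.tmul_zero])
  refine ⟨h0, HomologicalComplex.shortExact_of_degreewise_shortExact _ fun i => ?_⟩
  haveI := hP i
  exact
    { exact := (ShortComplex.ShortExact.moduleCat_exact_iff_function_exact _).2 (lTensor_exact (P.X i) huv hv)
      mono_f := (ModuleCat.mono_iff_injective _).2 (Module.Flat.lTensor_preserves_injective_linearMap u.hom hu)
      epi_g := (ModuleCat.epi_iff_surjective _).2 (LinearMap.lTensor_surjective (P.X i) hv) }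

theorem flat_cone {K L : DRing.Cx A} (φ : K ⟶ L) (hK : DRing.TermwiseFlat K) (hL : DRing.TermwiseFlat L) :
    DRing.TermwiseFlat (CochainComplex.mappingCone φ) := fun i => by
  haveI := hK (i + 1)
  haveI := hL i
  haveI : Module.Flat A (ModuleCat.of A (K.X (i + 1) × L.X i)) := ModModel.flat_prod _ _
  exact Module.Flat.of_linearEquiv (HomologicalComplex.homotopyCofiber.XIsoBiprod φ i (i + 1) rfl ≪≫
    ModuleCat.biprodIsoProd (K.X (i + 1)) (L.X i)).toLinearEquiv

/-- A K-flat complex exact above `c` stays so after tensoring. -/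
theorem exactAt_tensor_of_exact {C : DRing.Cx A} (hC : IsKFl C) {c : ℤ} (hex : ∀ i, c < i → C.ExactAt i)
    (N : ModuleCat.{u} A) (i : ℤ) (hi : c < i) : (DRing.tensorCx C N).ExactAt i := by
  obtain ⟨R, π, hR, hπ, hfree, hRb⟩ := exists_resolution_of_exactAt (K := C) (S := fun n => n ≤ c)
    (fun n hn => hex n (by omega)) (fun n hn => by omega)
  haveI := hR
  haveI := hπ
  have hq := quasiIso_map (tensorRight N) (fun _ h hac => acyclic_tensorCx h hac N) (isKFl_of_isKProjective R) hC π
  refine (@exactAt_iff_of_quasiIsoAt _ _ _ _ _ _ _ (((tensorRight N).mapHomologicalComplex (ComplexShape.up ℤ)).map π) i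
    _ _ (hq.quasiIsoAt i)).1 ?_
  exact ShortComplex.exact_of_isZero_X₂ _ ((tensorRight N).map_isZero (hRb i (by omega)))

/-- Modules over `A/I`. -/
theorem exactAt_tensor_of_torsion (I : Ideal A) (hP : IsKFl P) {c : ℤ}
    (h : ∀ i, c < i → (DRing.tensorCx P (ModuleCat.of A (A ⧸ I))).ExactAt i) (N : ModuleCat.{u} A)
    (hN : Module.IsTorsionBySet A N I) (i : ℤ) (hi : c < i) : (DRing.tensorCx P N).ExactAt i := by
  letI : Module (A ⧸ I) N := hN.module
  haveI : IsScalarTower A (A ⧸ I) N := ⟨fun r s x => by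
    obtain ⟨s, rfl⟩ := Ideal.Quotient.mk_surjective s
    show Ideal.Quotient.mk I (r * s) • x = r • (Ideal.Quotient.mk I s • x)
    rw [Module.IsTorsionBySet.mk_smul hN (r * s) x, Module.IsTorsionBySet.mk_smul hN s x, mul_smul]⟩
  let C := (escCx (Ideal.Quotient.mk I)).obj P
  have hC : ∀ j, c < j → C.ExactAt j := fun j hj => by
    have hj' := h j hj
    rw [exact_tensor_iff _ _ (j - 1) j (j + 1) (by omega) rfl] at hj'
    rw [exact_d_iff _ (j - 1) j (j + 1) (by omega) rfl]
    exact (Function.Exact.iff_of_ladder_linearEquiv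
      (e₁ := TensorProduct.comm A (P.X (j - 1)) (A ⧸ I)) (e₂ := TensorProduct.comm A (P.X j) (A ⧸ I))
      (e₃ := TensorProduct.comm A (P.X (j + 1)) (A ⧸ I))
      (f₁₂ := (P.d (j - 1) j).hom.rTensor (A ⧸ I)) (f₂₃ := (P.d j (j + 1)).hom.rTensor (A ⧸ I))
      (g₁₂ := ((P.d (j - 1) j).hom.baseChange (A ⧸ I)).restrictScalars A)
      (g₂₃ := ((P.d j (j + 1)).hom.baseChange (A ⧸ I)).restrictScalars A)
      (TensorProduct.ext' fun x s => rfl) (TensorProduct.ext' fun x s => rfl)).2 hj'
  have h1 := exactAt_tensor_of_exact (DCohBridge.isKFlat_baseChange (Ideal.Quotient.mk I) hP) hC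
    (ModuleCat.of (A ⧸ I) N) i hi
  rw [exact_tensor_iff _ _ (i - 1) i (i + 1) (by omega) rfl] at h1 ⊢
  let e : ∀ X : ModuleCat.{u} A, ((A ⧸ I) ⊗[A] X) ⊗[A ⧸ I] N ≃ₗ[A] X ⊗[A] N := fun X =>
    (TensorProduct.comm (A ⧸ I) ((A ⧸ I) ⊗[A] X) N).restrictScalars A ≪≫ₗ
      (TensorProduct.AlgebraTensorModule.cancelBaseChange A (A ⧸ I) (A ⧸ I) N X).restrictScalars A ≪≫ₗ
      TensorProduct.comm A N X
  refine (Function.Exact.iff_of_ladder_linearEquiv (e₁ := e _) (e₂ := e _) (e₃ := e _)
    (f₁₂ := (((P.d (i - 1) i).hom.baseChange (A ⧸ I)).rTensor N).restrictScalars A)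
    (f₂₃ := (((P.d i (i + 1)).hom.baseChange (A ⧸ I)).rTensor N).restrictScalars A)
    (g₁₂ := (P.d (i - 1) i).hom.rTensor N) (g₂₃ := (P.d i (i + 1)).hom.rTensor N) ?_ ?_).2 h1
  · refine LinearMap.ext fun z => ?_
    induction z with
    | zero => simp
    | tmul x n =>
      induction x with
      | zero => simp
      | tmul s x => rfl
      | add x y hx hy => simp only [TensorProduct.add_tmul, map_add, hx, hy]
    | add x y hx hy => simp only [map_add, hx, hy]
  · refine LinearMap.ext fun z => ?_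
    induction z with
    | zero => simp
    | tmul x n =>
      induction x with
      | zero => simp
      | tmul s x => rfl
      | add x y hx hy => simp only [TensorProduct.add_tmul, map_add, hx, hy]
    | add x y hx hy => simp only [map_add, hx, hy]

theorem vanishGE_tensor {c : ℤ} {N : ModuleCat.{u} A} (h : ∀ i, c < i → (DRing.tensorCx P N).ExactAt i) :
    VanishGE (c + 1) (DRing.toD (DRing.tensorCx P N)) :=
  (vanishGE_Q_iff (c + 1) _).2 fun i hi => h i (by omega)

theorem isoAbove_smul (hP : DRing.TermwiseFlat P) (f : A) {c : ℤ} (N : ModuleCat.{u} A)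
    (hK : ∀ i, c < i → (DRing.tensorCx P (ModuleCat.of A (LinearMap.ker (LinearMap.lsmul A N f)))).ExactAt i)
    (hC : ∀ i, c < i → (DRing.tensorCx P (ModuleCat.of A (N ⧸ LinearMap.range (LinearMap.lsmul A N f)))).ExactAt i) :
    IsoAbove (c + 1) (DerivedCategory.Q.map (tenMap P (ModuleCat.ofHom (LinearMap.lsmul A N f)))) := by
  let g := LinearMap.lsmul A N f
  let q : N ⟶ ModuleCat.of A (LinearMap.range g) := ModuleCat.ofHom g.rangeRestrict
  let ι : ModuleCat.of A (LinearMap.range g) ⟶ N := ModuleCat.ofHom (LinearMap.range g).subtype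
  obtain ⟨_, h₁⟩ := tenMap_shortExact hP (ModuleCat.ofHom (LinearMap.ker g).subtype) q
    (LinearMap.ker g).injective_subtype
    (LinearMap.exact_iff.2 (by
      show LinearMap.ker g.rangeRestrict = LinearMap.range (LinearMap.ker g).subtype
      rw [LinearMap.ker_rangeRestrict, Submodule.range_subtype]))
    g.surjective_rangeRestrict
  obtain ⟨_, h₂⟩ := tenMap_shortExact hP ι (ModuleCat.ofHom (LinearMap.range g).mkQ)
    (LinearMap.range g).injective_subtype (LinearMap.exact_subtype_mkQ _) (Submodule.mkQ_surjective _)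
  have hι : IsoAbove (c + 1) (DerivedCategory.Q.map (tenMap P ι)) :=
    (isoAbove_mor₁_iff _ (DerivedCategory.triangleOfSES_distinguished h₂) (c + 1)).2 (vanishGE_tensor hC)
  have hq : IsoAbove (c + 1) (DerivedCategory.Q.map (tenMap P q)) := by
    refine (isoAbove_mor₁_iff _ (rot_of_distTriang _ (DerivedCategory.triangleOfSES_distinguished h₁)) (c + 1)).2 ?_
    intro i hi
    exact ((vanishGE_tensor hK (1 + i) (by omega)).of_iso
      (((DerivedCategory.homologyFunctor (ModuleCat.{u} A) 0).shiftIso 1 i (1 + i) rfl).app _))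
  have hcomp : tenMap P (ModuleCat.ofHom g) = tenMap P q ≫ tenMap P ι :=
    HomologicalComplex.hom_ext _ _ fun i => ModuleCat.hom_ext (TensorProduct.ext' fun x n => rfl)
  rw [show tenMap P (ModuleCat.ofHom (LinearMap.lsmul A N f)) = _ from hcomp, Functor.map_comp]
  exact hq.comp hι

/-- Derived Nakayama above a degree. -/
theorem exactAt_of_complete (I : Ideal A) (c : ℤ) : ∀ (l : List A) (P : DRing.Cx A), (∀ f ∈ l, f ∈ I) →
    IsKFl P → DRing.TermwiseFlat P → DRing.IsDerivedComplete I (DRing.toD P) →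
    (∀ N : ModuleCat.{u} A, (∀ f ∈ l, ∀ x : N, f • x = 0) → ∀ i, c < i → (DRing.tensorCx P N).ExactAt i) →
      ∀ i, c < i → P.ExactAt i
  | [], P, _, _, _, _, h, i, hi => (exactAt_tensor_unit_iff P i).1 (h _ (fun _ h => (List.not_mem_nil h).elim) i hi)
  | f :: l, P, hl, hP, hflat, hc, h, i, hi => by
    let μ : P ⟶ P := f • 𝟙 P
    have hT := DerivedCategory.mappingCone_triangle_distinguished μ
    have hcone : DRing.IsDerivedComplete I (DRing.toD (CochainComplex.mappingCone μ)) :=
      isDerivedComplete_obj₃ _ hT hc hc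
    have hN : ∀ N : ModuleCat.{u} A, (∀ g ∈ l, ∀ x : N, g • x = 0) → ∀ i, c < i →
        (DRing.tensorCx (CochainComplex.mappingCone μ) N).ExactAt i := by
      intro N hN i hi
      have h1 := isoAbove_smul hflat f (c := c) N
        (fun j hj => h _ (fun g hg x => by
          rcases List.mem_cons.1 hg with rfl | hg
          · exact Subtype.ext x.2
          · exact Subtype.ext (hN g hg x.1)) j hj)
        (fun j hj => h _ (fun g hg x => by
          obtain ⟨x, rfl⟩ := Submodule.mkQ_surjective _ x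
          rw [← map_smul, Submodule.mkQ_apply, Submodule.Quotient.mk_eq_zero]
          rcases List.mem_cons.1 hg with rfl | hg
          · exact ⟨x, rfl⟩
          · rw [hN g hg x]; exact Submodule.zero_mem _) j hj)
      have he : ((tensorRight N).mapHomologicalComplex (ComplexShape.up ℤ)).map μ =
          tenMap P (ModuleCat.ofHom (LinearMap.lsmul A N f)) :=
        HomologicalComplex.hom_ext _ _ fun j => ModuleCat.hom_ext (TensorProduct.ext' fun x n =>
          (TensorProduct.smul_tmul f x n))
      have h2 := (isoAbove_Q_map_iff (c + 1) _).1 (he.symm ▸ h1) i (by omega)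
      exact h2.of_iso (CochainComplex.mappingCone.mapHomologicalComplexIso μ (tensorRight N)).symm
    have ih := exactAt_of_complete I c l _ (fun g hg => hl g (List.mem_cons_of_mem _ hg)) (isKFlat_cone μ hP hP)
      (flat_cone μ hflat hflat) hcone hN
    have hiso : IsoAbove (c + 1) (DerivedCategory.Q.map μ) :=
      (isoAbove_Q_map_iff (c + 1) μ).2 fun j hj => ih j (by omega)
    have hsurj : Function.Surjective ((DerivedCategory.homologyFunctor (ModuleCat.{u} A) i).map
        (DerivedCategory.Q.map μ)).hom :=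
      (ModuleCat.epi_iff_surjective _).1 (hiso.mono_degree (show c + 1 ≤ i by omega)).2
    have hsm : (DerivedCategory.homologyFunctor (ModuleCat.{u} A) i).map (DerivedCategory.Q.map μ) = f • 𝟙 _ := by
      refine (NatIso.naturality_2 (DerivedCategory.homologyFunctorFactors (ModuleCat.{u} A) i) μ).symm.trans ?_
      rw [show (HomologicalComplex.homologyFunctor (ModuleCat.{u} A) (ComplexShape.up ℤ) i).map μ = f • 𝟙 _ by
        show ShortComplex.homologyMap (f • 𝟙 (P.sc i)) = _
        rw [ShortComplex.homologyMap_smul, ShortComplex.homologyMap_id]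
        rfl,
        Linear.smul_comp, Linear.comp_smul, Category.id_comp, Iso.hom_inv_id_app]
      rfl
    rw [hsm] at hsurj
    rw [← subsingleton_HD_iff]
    refine subsingleton_of_forall_eq 0 fun x => ?_
    choose s hs using hsurj
    let seq : ℕ → Dual.HD A (DRing.toD P) i := fun n => Nat.rec x (fun _ y => s y) n
    have h0 : tel f _ seq = 0 := funext fun n => by
      show seq n - f • seq (n + 1) = 0
      exact sub_eq_zero.2 (hs (seq n)).symm
    exact congrFun (((isDerivedComplete_iff_homology I _).1 hc f (hl f List.mem_cons_self) i).1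
      (h0.trans (map_zero _).symm)) 0

theorem exists_flat_rep (K : Dual.D A) : ∃ P : DRing.Cx A, IsKFl P ∧ DRing.TermwiseFlat P ∧ Nonempty (DRing.toD P ≅ K) := by
  obtain ⟨P, hP, hfree, ⟨e⟩⟩ := DRingKProj.exists_isKProjective_iso K
  haveI := hP
  exact ⟨P, isKFl_of_isKProjective P, fun i => haveI := hfree i; inferInstance, ⟨e⟩⟩

theorem subsingleton_HD_of_quotient (I : Ideal A) (hI : I.FG) [DRing.HasLTensor A (ModuleCat.of A (A ⧸ I))]
    (K : Dual.D A) (hc : DRing.IsDerivedComplete I K) (c : ℤ)
    (h : ∀ i, c < i → Subsingleton (Dual.HD A ((DRing.LTensor A (ModuleCat.of A (A ⧸ I))).obj K) i))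
    (i : ℤ) (hi : c < i) : Subsingleton (Dual.HD A K i) := by
  obtain ⟨P, hP, hflat, ⟨e⟩⟩ := exists_flat_rep K
  obtain ⟨s, hs⟩ := hI
  refine (subsingleton_HD_congr e i).1 ((subsingleton_HD_iff P i).2 ?_)
  refine exactAt_of_complete I c s.toList P (fun f hf => hs ▸ Ideal.subset_span (by simpa using hf)) hP hflat
    (fun f hf n => haveI := hc f hf n; (Iso.homCongr (Iso.refl _) ((shiftFunctor (Dual.D A) n).mapIso e)).subsingleton) (fun N hN j hj => ?_) i hi
  refine exactAt_tensor_of_torsion I hP
    (fun k hk => (subsingleton_lTensor_iff _ hP e k).1 (h k hk)) N (fun x a => ?_) j hj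
  have hsub : I ≤ (LinearMap.toSpanSingleton A N x).ker := by
    rw [← hs]
    exact Submodule.span_le.2 fun f hf => hN f (by simpa using hf) x
  exact hsub a.2

theorem subsingleton_lTensor_of_HD (M : ModuleCat.{u} A) [DRing.HasLTensor A M] (K : Dual.D A) (c : ℤ)
    (h : ∀ i, c < i → Subsingleton (Dual.HD A K i)) (i : ℤ) (hi : c < i) :
    Subsingleton (Dual.HD A ((DRing.LTensor A M).obj K) i) := by
  obtain ⟨P, hP, -, ⟨e⟩⟩ := exists_flat_rep K
  exact (subsingleton_lTensor_iff M hP e i).2 (exactAt_tensor_of_exact hP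
    (fun j hj => (subsingleton_HD_iff P j).1 ((subsingleton_HD_congr e j).2 (h j hj))) M i hi)

end Groth.Agent.DRingComplete
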