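import Groth.Agent.DRingComplete.Telescope
import Mathlib.Algebra.Homology.DerivedCategory.ShortExact

/-!
# Existence and universal property of derived completion
-/

universe u

open CategoryTheory Limits Pretriangulated

namespace Groth.Agent.DRingComplete

attribute [local instance] HasDerivedCategory.standard

set_option linter.style.haveILetI false

variable {A : Type u} [CommRing A] (I : Ideal A)

/-- Precomposition with `u` is bijective on maps into derived complete objects. -/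
def Uni {X Y : Dual.D A} (u : X ⟶ Y) : Prop :=
  ∀ E, DRing.IsDerivedComplete I E → Function.Bijective (fun g : Y ⟶ E => u ≫ g)

variable {I}

theorem uni_id (X : Dual.D A) : Uni I (𝟙 X) := fun E _ => by
  simp only [Category.id_comp]
  exact Function.bijective_id

theorem Uni.comp {X Y Z : Dual.D A} {u : X ⟶ Y} {v : Y ⟶ Z} (hu : Uni I u) (hv : Uni I v) : Uni I (u ≫ v) :=
  fun E hE => by
    simp only [Category.assoc]
    exact (hu E hE).comp (hv E hE)

theorem uni_of_isIso {X Y : Dual.D A} (u : X ⟶ Y) [IsIso u] : Uni I u := fun _ _ =>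
  ⟨fun _ _ h => (cancel_epi u).1 h, fun g => ⟨inv u ≫ g, by simp⟩⟩

theorem isDerivedComplete_shift {E : Dual.D A} (h : DRing.IsDerivedComplete I E) (m : ℤ) :
    DRing.IsDerivedComplete I (E⟦m⟧) := fun f hf n => by
  haveI := h f hf (m + n)
  exact Equiv.subsingleton (Iso.homCongr (Iso.refl _) ((shiftFunctorAdd' (Dual.D A) m n (m + n) rfl).app E).symm)

theorem Uni.shift {X Y : Dual.D A} {u : X ⟶ Y} (hu : Uni I u) : Uni I (u⟦(1 : ℤ)⟧') := fun E hE => by
  let adj : shiftFunctor (Dual.D A) (1 : ℤ) ⊣ shiftFunctor (Dual.D A) (-1 : ℤ) :=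
    (shiftEquiv (Dual.D A) (1 : ℤ)).toAdjunction
  have h := hu _ (isDerivedComplete_shift hE (-1))
  have e : (fun g : Y⟦(1 : ℤ)⟧ ⟶ E => u⟦(1 : ℤ)⟧' ≫ g) =
      (adj.homEquiv X E).symm ∘ (fun g => u ≫ g) ∘ (adj.homEquiv Y E) := funext fun g => by
    show _ = (adj.homEquiv X E).symm (u ≫ adj.homEquiv Y E g)
    rw [Adjunction.homEquiv_naturality_left_symm, Equiv.symm_apply_apply]
  rw [e]
  exact (Equiv.bijective _).comp (h.comp (Equiv.bijective _))

/-- The five lemma for `Uni`. -/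
theorem Uni.hom₃ {T T' : Triangle (Dual.D A)} (hT : T ∈ distTriang _) (hT' : T' ∈ distTriang _)
    (γ : T ⟶ T') (h₁ : Uni I γ.hom₁) (h₂ : Uni I γ.hom₂) : Uni I γ.hom₃ := fun E hE => by
  refine ⟨(injective_iff_map_eq_zero (⟨⟨fun g : T'.obj₃ ⟶ E => γ.hom₃ ≫ g, comp_zero⟩,
    fun a b => Preadditive.comp_add _ _ _ _ _ _⟩ : (T'.obj₃ ⟶ E) →+ (T.obj₃ ⟶ E))).2 ?_, fun g => ?_⟩
  · intro h (hh : γ.hom₃ ≫ h = 0)
    obtain ⟨k, rfl⟩ : ∃ k, h = T'.mor₃ ≫ k := Triangle.yoneda_exact₃ T' hT' h ((h₂ E hE).1 (by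
      show γ.hom₂ ≫ T'.mor₂ ≫ h = γ.hom₂ ≫ 0
      rw [← γ.comm₂_assoc, hh, comp_zero, comp_zero]))
    obtain ⟨m, hm⟩ := Triangle.yoneda_exact₃ T.rotate (rot_of_distTriang _ hT) (γ.hom₁⟦(1 : ℤ)⟧' ≫ k) (by
      show T.mor₃ ≫ γ.hom₁⟦(1 : ℤ)⟧' ≫ k = 0
      rw [γ.comm₃_assoc, hh])
    obtain ⟨m', hm'⟩ := (h₂.shift E hE).2 m
    have hk : k = -(T'.mor₁⟦(1 : ℤ)⟧' ≫ m') := (h₁.shift E hE).1 (by
      show γ.hom₁⟦(1 : ℤ)⟧' ≫ k = γ.hom₁⟦(1 : ℤ)⟧' ≫ (-(T'.mor₁⟦(1 : ℤ)⟧' ≫ m'))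
      refine hm.trans ?_
      show (-(T.mor₁⟦(1 : ℤ)⟧')) ≫ (m : T.obj₂⟦(1 : ℤ)⟧ ⟶ E) = _
      rw [← show (γ.hom₂⟦(1 : ℤ)⟧') ≫ m' = m from hm']
      rw [Preadditive.neg_comp, Preadditive.comp_neg, ← Functor.map_comp_assoc, γ.comm₁, Functor.map_comp_assoc])
    rw [hk, Preadditive.comp_neg, comp_distTriang_mor_zero₃₁_assoc _ hT', zero_comp, neg_zero]
  · obtain ⟨ψ, hψ⟩ := (h₂ E hE).2 (T.mor₂ ≫ g)
    obtain ⟨h, rfl⟩ := Triangle.yoneda_exact₂ T' hT' ψ ((h₁ E hE).1 (by
      show γ.hom₁ ≫ T'.mor₁ ≫ ψ = γ.hom₁ ≫ 0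
      rw [← γ.comm₁_assoc, show γ.hom₂ ≫ ψ = _ from hψ, comp_distTriang_mor_zero₁₂_assoc _ hT, zero_comp, comp_zero]))
    obtain ⟨k, hk⟩ := Triangle.yoneda_exact₃ T hT (γ.hom₃ ≫ h - g) (by
      rw [Preadditive.comp_sub, γ.comm₂_assoc, show γ.hom₂ ≫ T'.mor₂ ≫ h = _ from hψ, sub_self])
    obtain ⟨k', hk'⟩ := (h₁.shift E hE).2 k
    refine ⟨h - T'.mor₃ ≫ k', ?_⟩
    show γ.hom₃ ≫ (h - T'.mor₃ ≫ k') = g
    rw [Preadditive.comp_sub, ← γ.comm₃_assoc, show γ.hom₁⟦(1 : ℤ)⟧' ≫ k' = k from hk', ← hk, sub_sub_cancel]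

/-- Two universal maps to complete objects agree up to isomorphism. -/
theorem Uni.nonempty_iso {X Y Y' : Dual.D A} {u : X ⟶ Y} {u' : X ⟶ Y'} (hu : Uni I u) (hu' : Uni I u')
    (hY : DRing.IsDerivedComplete I Y) (hY' : DRing.IsDerivedComplete I Y') : Nonempty (Y ≅ Y') := by
  obtain ⟨a, ha⟩ := (hu Y' hY').2 u'
  obtain ⟨b, hb⟩ := (hu' Y hY).2 u
  change u ≫ a = u' at ha
  change u' ≫ b = u at hb
  refine ⟨⟨a, b, (hu Y hY).1 ?_, (hu' Y' hY').1 ?_⟩⟩
  · show u ≫ a ≫ b = u ≫ 𝟙 Y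
    rw [reassoc_of% ha, hb, Category.comp_id]
  · show u' ≫ b ≫ a = u' ≫ 𝟙 Y'
    rw [reassoc_of% hb, ha, Category.comp_id]

theorem uni_complη {f : A} (hf : f ∈ I) (K : DRing.Cx A) : Uni I (DerivedCategory.Q.map (complη f K)) := fun E hE => by
  obtain ⟨T, q, w, hS, hiso⟩ := exists_third f K
  haveI := hiso
  let Δ := DerivedCategory.triangleOfSES hS
  have hΔ : Δ ∈ distTriang _ := DerivedCategory.triangleOfSES_distinguished hS
  haveI : IsIso (f • 𝟙 ((DRing.toD T)⟦(-1 : ℤ)⟧)) := by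
    rw [← CategoryTheory.Functor.map_id, ← Functor.map_smul]
    infer_instance
  have h := fun i => (isDerivedComplete_iff_homology I E).1 hE f hf i
  haveI := subsingleton_hom_of_isIso_smul f (DRing.toD T) E h
  haveI := subsingleton_hom_of_isIso_smul f ((DRing.toD T)⟦(-1 : ℤ)⟧) E h
  refine ⟨(injective_iff_map_eq_zero (⟨⟨fun g : Δ.obj₂ ⟶ E => Δ.mor₁ ≫ g, comp_zero⟩,
    fun a b => Preadditive.comp_add _ _ _ _ _ _⟩ : (Δ.obj₂ ⟶ E) →+ (Δ.obj₁ ⟶ E))).2 fun g hg => ?_, fun g => ?_⟩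
  · obtain ⟨h', rfl⟩ := Triangle.yoneda_exact₂ Δ hΔ g hg
    exact (congrArg (Δ.mor₂ ≫ ·) (Subsingleton.elim (α := DRing.toD T ⟶ E) h' 0)).trans comp_zero
  · obtain ⟨k, hk⟩ := Triangle.yoneda_exact₂ Δ.invRotate (inv_rot_of_distTriang _ hΔ) g
      (Subsingleton.elim (α := (DRing.toD T)⟦(-1 : ℤ)⟧ ⟶ E) _ _)
    exact ⟨k, hk.symm⟩

/-- Completion at a list of elements. -/
noncomputable def iterCx : List A → DRing.Cx A → DRing.Cx A
  | [], K => K
  | f :: l, K => complCx f (iterCx l K)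

/-- The map to the completion at a list of elements. -/
noncomputable def iterη : ∀ (l : List A) (K : DRing.Cx A), K ⟶ iterCx l K
  | [], K => 𝟙 K
  | f :: l, K => iterη l K ≫ complη f (iterCx l K)

theorem compCx_iter : ∀ (l : List A) (K : DRing.Cx A), ∀ g ∈ l, CompCx g (iterCx l K)
  | f :: l, K, g, hg => by
    rcases List.mem_cons.1 hg with rfl | hg
    · exact compCx_compl g _
    · exact compCx_compl_of f _ g (compCx_iter l K g hg)

theorem uni_iter : ∀ (l : List A), (∀ g ∈ l, g ∈ I) → ∀ K, Uni I (DerivedCategory.Q.map (iterη l K))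
  | [], _, K => by
    show Uni I (DerivedCategory.Q.map (𝟙 K))
    rw [CategoryTheory.Functor.map_id]
    exact uni_id _
  | f :: l, hl, K => by
    show Uni I (DerivedCategory.Q.map (iterη l K ≫ complη f (iterCx l K)))
    rw [Functor.map_comp]
    exact (uni_iter l (fun g hg => hl g (List.mem_cons_of_mem _ hg)) K).comp
      (uni_complη (hl f (List.mem_cons_self)) _)

theorem iterCx_exactAt : ∀ (l : List A) (K : DRing.Cx A) (i : ℤ),
    (∀ j, i ≤ j → j ≤ i + l.length → K.ExactAt j) → (iterCx l K).ExactAt i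
  | [], K, i, h => h i le_rfl (by simp)
  | f :: l, K, i, h => complCx_exactAt f _
      (iterCx_exactAt l K i fun j h1 h2 => h j h1 (by simp only [List.length_cons]; omega))
      (iterCx_exactAt l K (i + 1) fun j h1 h2 => h j (by omega) (by simp only [List.length_cons]; omega))

theorem isDerivedComplete_iter (l : List A) (hl : Ideal.span {a | a ∈ l} = I) (K : DRing.Cx A) :
    DRing.IsDerivedComplete I (DRing.toD (iterCx l K)) := by
  rw [← hl]
  exact isDerivedComplete_span _ _ fun g hg => compCx_iter l K g hg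

theorem subsingleton_HD_iff (C : DRing.Cx A) (i : ℤ) :
    Subsingleton (Dual.HD A (DRing.toD C) i) ↔ C.ExactAt i := by
  rw [HomologicalComplex.exactAt_iff' C (i - 1) i (i + 1) (by simp) (by simp),
    ShortComplex.exact_iff_isZero_homology]
  refine ⟨fun h => ?_, fun h => ?_⟩
  · haveI := (hdEquiv C i).symm.toEquiv.subsingleton
    exact ModuleCat.isZero_of_subsingleton _
  · haveI := ModuleCat.subsingleton_of_isZero h
    exact (hdEquiv C i).toEquiv.subsingleton

theorem subsingleton_HD_iso {X Y : Dual.D A} (e : X ≅ Y) (i : ℤ) [Subsingleton (Dual.HD A X i)] :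
    Subsingleton (Dual.HD A Y i) :=
  (((DerivedCategory.homologyFunctor (ModuleCat.{u} A) i).mapIso e).toLinearEquiv.symm).toEquiv.subsingleton

theorem exists_completion (l : List A) (hl : Ideal.span {a | a ∈ l} = I) (K : Dual.D A) :
    ∃ (L : Dual.D A) (u : K ⟶ L), DRing.IsDerivedComplete I L ∧ Uni I u ∧
      ∀ i : ℤ, (∀ j : ℤ, i ≤ j → j ≤ i + l.length → Subsingleton (Dual.HD A K j)) → Subsingleton (Dual.HD A L i) := by
  let K₀ := DerivedCategory.Q.objPreimage K
  let e : DRing.toD K₀ ≅ K := DerivedCategory.Q.objObjPreimageIso K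
  refine ⟨DRing.toD (iterCx l K₀), e.inv ≫ DerivedCategory.Q.map (iterη l K₀), isDerivedComplete_iter l hl K₀,
    (uni_of_isIso e.inv).comp (uni_iter l (fun g hg => hl ▸ Ideal.subset_span hg) K₀), fun i h => ?_⟩
  refine (subsingleton_HD_iff _ i).2 (iterCx_exactAt l K₀ i fun j h1 h2 => ?_)
  haveI := h j h1 h2
  exact (subsingleton_HD_iff _ j).1 (subsingleton_HD_iso e.symm j)

theorem hasDerivedCompletion (l : List A) (hl : Ideal.span {a | a ∈ l} = I) : DRing.HasDerivedCompletion I := by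
  choose L η hL hη using fun K => (exists_completion l hl K).imp fun _ h => h.imp fun _ h => And.intro h.1 h.2.1
  let e : ∀ (X : Dual.D A) (Y : DRing.DComp I),
      ((⟨L X, hL X⟩ : DRing.DComp I) ⟶ Y) ≃ (X ⟶ (ObjectProperty.ι (DRing.IsDerivedComplete I)).obj Y) := fun X Y =>
    { toFun := fun g => η X ≫ g.hom
      invFun := fun g => ObjectProperty.homMk ((Equiv.ofBijective _ (hη X Y.obj Y.property)).symm g)
      left_inv := fun g => InducedCategory.hom_ext ((Equiv.ofBijective _ (hη X Y.obj Y.property)).symm_apply_apply g.hom)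
      right_inv := fun g => (Equiv.ofBijective _ (hη X Y.obj Y.property)).apply_symm_apply g }
  exact ⟨_, ⟨Adjunction.adjunctionOfEquivLeft (G := ObjectProperty.ι (DRing.IsDerivedComplete I)) e
    (fun X Y Y' g h => (Category.assoc (η X) h.hom g.hom).symm)⟩⟩

theorem uni_unit [DRing.HasDerivedCompletion I] (K : Dual.D A) : Uni I (DRing.toDerivedCompletion I K) := fun E hE => by
  let adj := DRing.derivedCompletionAdj I
  let Y : DRing.DComp I := ⟨E, hE⟩
  let fe : (((DRing.derivedCompletion I).obj K).obj ⟶ E) → ((DRing.derivedCompletion I).obj K ⟶ Y) := fun g =>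
    ObjectProperty.homMk g
  have hfe : Function.Bijective fe := ⟨fun a b h => congrArg InducedCategory.Hom.hom h, fun g => ⟨g.hom, rfl⟩⟩
  have e : (fun g : ((DRing.derivedCompletion I).obj K).obj ⟶ E => DRing.toDerivedCompletion I K ≫ g) =
      adj.homEquiv K Y ∘ fe := funext fun g => (adj.homEquiv_unit K Y (fe g)).symm
  rw [e]
  exact (Equiv.bijective _).comp hfe

theorem isDerivedComplete_obj [DRing.HasDerivedCompletion I] (K : Dual.D A) :
    DRing.IsDerivedComplete I ((DRing.derivedCompletion I).obj K).obj :=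
  ((DRing.derivedCompletion I).obj K).property

theorem span_toList (s : Finset A) : Ideal.span {a | a ∈ s.toList} = Ideal.span (s : Set A) := by
  congr 1
  ext a
  simp

theorem subsingleton_HD_derivedCompletion [DRing.HasDerivedCompletion I] (s : Finset A)
    (hs : Ideal.span (s : Set A) = I) (K : Dual.D A) (i : ℤ)
    (h : ∀ j : ℤ, i ≤ j → j ≤ i + s.card → Subsingleton (Dual.HD A K j)) :
    Subsingleton (Dual.HD A ((DRing.derivedCompletion I).obj K).obj i) := by
  obtain ⟨L, u, hL, hu, hv⟩ := exists_completion s.toList ((span_toList s).trans hs) K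
  obtain ⟨e⟩ := hu.nonempty_iso (uni_unit K) hL (isDerivedComplete_obj K)
  haveI := hv i fun j h1 h2 => h j h1 (by rwa [Finset.length_toList] at h2)
  exact subsingleton_HD_iso e i

theorem exists_cone_vanish [DRing.HasDerivedCompletion I] (s : Finset A) (hs : Ideal.span (s : Set A) = I)
    {K L : Dual.D A} (φ : K ⟶ L) :
    ∃ (C C' : Dual.D A) (a : L ⟶ C) (b : C ⟶ K⟦(1 : ℤ)⟧)
      (a' : ((DRing.derivedCompletion I).obj L).obj ⟶ C')
      (b' : C' ⟶ ((DRing.derivedCompletion I).obj K).obj⟦(1 : ℤ)⟧),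
      Triangle.mk φ a b ∈ distTriang _ ∧ Triangle.mk ((DRing.derivedCompletion I).map φ).hom a' b' ∈ distTriang _ ∧
      ∀ i : ℤ, (∀ j : ℤ, i ≤ j → j ≤ i + s.card → Subsingleton (Dual.HD A C j)) → Subsingleton (Dual.HD A C' i) := by
  obtain ⟨C, a, b, hT⟩ := distinguished_cocone_triangle φ
  obtain ⟨C', a', b', hT'⟩ := distinguished_cocone_triangle ((DRing.derivedCompletion I).map φ).hom
  refine ⟨C, C', a, b, a', b', hT, hT', fun i h => ?_⟩
  have hnat : φ ≫ DRing.toDerivedCompletion I L =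
      DRing.toDerivedCompletion I K ≫ ((DRing.derivedCompletion I).map φ).hom :=
    (DRing.derivedCompletionAdj I).unit.naturality φ
  obtain ⟨γ, hγ1, hγ2⟩ := complete_distinguished_triangle_morphism _ _ hT hT'
    (DRing.toDerivedCompletion I K) (DRing.toDerivedCompletion I L) hnat
  have hu := Uni.hom₃ hT hT' (Triangle.homMk _ _ (DRing.toDerivedCompletion I K) (DRing.toDerivedCompletion I L) γ
    hnat hγ1 hγ2) (uni_unit K) (uni_unit L)
  obtain ⟨e⟩ := hu.nonempty_iso (uni_unit C)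
    (isDerivedComplete_obj₃ _ hT' (isDerivedComplete_obj K) (isDerivedComplete_obj L)) (isDerivedComplete_obj C)
  haveI := subsingleton_HD_derivedCompletion s hs C i h
  exact subsingleton_HD_iso e.symm i

end Groth.Agent.DRingComplete
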