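import Groth.Prelude.Def_DRing3
import Mathlib.Algebra.Category.ModuleCat.Ext.HasExt
import Mathlib.Algebra.Homology.DerivedCategory.Ext.EnoughProjectives
import Mathlib.Algebra.Homology.DerivedCategory.TStructure
import Mathlib.Algebra.Category.ModuleCat.Projective
import Mathlib.RingTheory.Localization.Away.Basic
import Mathlib.LinearAlgebra.FreeModule.Basic
import Mathlib.Algebra.Homology.ShortComplex.ModuleCat

/-!
# Derived completeness of a module through the telescope map

`Dual.inD A M` is derived complete with respect to `I` iff for every `f ∈ I` the map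
`(x_i) ↦ (x_i - f x_{i+1})` on `ℕ → M` is bijective.
-/

universe u

open CategoryTheory Limits

namespace Groth.Agent.DRingComplete

attribute [local instance] HasDerivedCategory.standard

variable {A : Type u} [CommRing A]

/-- The telescope map `(x_i) ↦ (x_i - f x_{i+1})`. -/
def tel (f : A) (M : Type u) [AddCommGroup M] [Module A M] : (ℕ → M) →ₗ[A] (ℕ → M) where
  toFun x i := x i - f • x (i + 1)
  map_add' x y := funext fun i => by simp only [Pi.add_apply, smul_add]; abel
  map_smul' a x := funext fun i => by simp [smul_sub, smul_comm f a]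

@[simp]
theorem tel_apply (f : A) (M : Type u) [AddCommGroup M] [Module A M] (x : ℕ → M) (i : ℕ) :
    tel f M x i = x i - f • x (i + 1) := rfl

noncomputable section Resolution

variable (f : A)

/-- The differential of the telescope resolution. -/
def telD : (ℕ →₀ A) →ₗ[A] (ℕ →₀ A) :=
  Finsupp.linearCombination A fun i => Finsupp.single i 1 - Finsupp.single (i + 1) f

/-- The augmentation `e_i ↦ 1 / f ^ i`. -/
def telP : (ℕ →₀ A) →ₗ[A] Localization.Away f :=
  Finsupp.linearCombination A fun i =>
    IsLocalization.mk' (Localization.Away f) (1 : A) (⟨f ^ i, i, rfl⟩ : Submonoid.powers f)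

theorem telD_apply (c : ℕ →₀ A) (i : ℕ) :
    telD f c i = c i - (if i = 0 then 0 else f * c (i - 1)) := by
  induction c using Finsupp.induction_linear with
  | zero => simp
  | add a b ha hb =>
    simp only [map_add, Finsupp.add_apply, ha, hb]
    split_ifs <;> ring
  | single k r =>
    rw [telD, Finsupp.linearCombination_single, Finsupp.smul_apply, Finsupp.sub_apply, smul_eq_mul]
    rcases i with _ | i
    · simp [Finsupp.single_apply]
    · simp only [Finsupp.single_apply, Nat.succ_ne_zero, if_false, Nat.add_sub_cancel, Nat.add_right_cancel_iff]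
      split_ifs <;> ring

theorem telD_injective : Function.Injective (telD f) := by
  rw [injective_iff_map_eq_zero]
  intro c hc
  ext i
  induction i with
  | zero => simpa [telD_apply] using Finsupp.ext_iff.1 hc 0
  | succ i ih =>
    have h := Finsupp.ext_iff.1 hc (i + 1)
    rw [telD_apply] at h
    simpa [ih] using h

theorem telP_single (i : ℕ) (r : A) :
    telP f (Finsupp.single i r)
      = IsLocalization.mk' (Localization.Away f) r (⟨f ^ i, i, rfl⟩ : Submonoid.powers f) := by
  rw [telP, Finsupp.linearCombination_single, IsLocalization.smul_mk', mul_one]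

theorem telP_surjective : Function.Surjective (telP f) := fun x => by
  obtain ⟨r, ⟨_, i, rfl⟩, rfl⟩ := IsLocalization.exists_mk'_eq (Submonoid.powers f) x
  exact ⟨Finsupp.single i r, telP_single f i r⟩

theorem telP_telD (c : ℕ →₀ A) : telP f (telD f c) = 0 := by
  induction c using Finsupp.induction_linear with
  | zero => simp
  | add a b ha hb => simp [ha, hb]
  | single k r =>
    rw [telD, Finsupp.linearCombination_single, map_smul, map_sub, telP_single, telP_single, sub_eq_zero.2, smul_zero]
    rw [IsLocalization.mk'_eq_iff_eq]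
    simp [pow_succ]

/-- Partial sums `b_i = ∑_{j ≤ i} f^{i-j} c_j`. -/
def partialSum (c : ℕ →₀ A) : ℕ → A
  | 0 => c 0
  | i + 1 => c (i + 1) + f * partialSum c i

theorem telP_eq_mk' (c : ℕ →₀ A) (N : ℕ) (hN : ∀ i, N < i → c i = 0) :
    telP f c = IsLocalization.mk' (Localization.Away f) (partialSum f c N)
      (⟨f ^ N, N, rfl⟩ : Submonoid.powers f) := by
  induction N generalizing c with
  | zero =>
    have hc : c = Finsupp.single 0 (c 0) := Finsupp.ext fun i => by
      rcases i with _ | i
      · simp
      · simpa using hN (i + 1) (by omega)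
    rw [hc, telP_single]
    simp [partialSum]
  | succ N ih =>
    classical
    set c' := c.erase (N + 1) with hc'
    have hdec : c = c' + Finsupp.single (N + 1) (c (N + 1)) := by
      rw [hc', add_comm, Finsupp.single_add_erase]
    have hc'N : ∀ i, N < i → c' i = 0 := fun i hi => by
      rcases eq_or_lt_of_le (Nat.succ_le_of_lt hi) with h | h
      · subst h; simp [hc']
      · rw [hc', Finsupp.erase_ne (by omega)]; exact hN i h
    have hps : ∀ i, i ≤ N → partialSum f c' i = partialSum f c i := by
      intro i hi
      induction i with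
      | zero => simp [partialSum, hc']
      | succ i ihi =>
        simp only [partialSum, ihi (by omega)]
        rw [hc', Finsupp.erase_ne (by omega)]
    conv_lhs => rw [hdec, map_add, ih c' hc'N, hps N le_rfl, telP_single]
    show _ = IsLocalization.mk' _ (c (N + 1) + f * partialSum f c N) _
    rw [← IsLocalization.mk'_add, IsLocalization.mk'_eq_iff_eq]
    simp [pow_succ]
    ring

theorem exists_telD_eq {c : ℕ →₀ A} (hc : telP f c = 0) : ∃ b, telD f b = c := by
  classical
  obtain ⟨N, hN⟩ : ∃ N, ∀ i, N < i → c i = 0 := ⟨c.support.sup id, fun i hi => by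
    by_contra h
    exact absurd (Finset.le_sup (f := id) (Finsupp.mem_support_iff.2 h)) (not_le.2 hi)⟩
  rw [telP_eq_mk' f c N hN, IsLocalization.mk'_eq_zero_iff] at hc
  obtain ⟨⟨_, k, rfl⟩, hk⟩ := hc
  have hpow : ∀ m, partialSum f c (N + m) = f ^ m * partialSum f c N := by
    intro m
    induction m with
    | zero => simp
    | succ m ih =>
      show c (N + m + 1) + f * partialSum f c (N + m) = _
      rw [hN _ (by omega), ih, pow_succ]
      ring
  have hzero : ∀ i, N + k ≤ i → partialSum f c i = 0 := fun i hi => by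
    obtain ⟨m, rfl⟩ := Nat.exists_eq_add_of_le hi
    have hk' : f ^ k * partialSum f c N = 0 := by simpa using hk
    rw [Nat.add_assoc, hpow, Nat.add_comm k m, pow_add, mul_assoc, hk', mul_zero]
  refine ⟨Finsupp.onFinset (Finset.range (N + k)) (partialSum f c) (fun i hi => Finset.mem_range.2 ?_), ?_⟩
  · by_contra h
    exact hi (hzero i (by omega))
  · ext i
    rw [telD_apply, Finsupp.onFinset_apply]
    rcases i with _ | i
    · simp [partialSum]
    · simp [partialSum]

/-- The telescope short complex. -/
def telSC : ShortComplex (ModuleCat.{u} A) :=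
  ShortComplex.mk (ModuleCat.ofHom (telD f)) (ModuleCat.ofHom (telP f))
    (ModuleCat.hom_ext (LinearMap.ext (telP_telD f)))

theorem telSC_shortExact : (telSC f).ShortExact := by
  haveI : Mono (telSC f).f := (ModuleCat.mono_iff_injective _).2 (telD_injective f)
  haveI : Epi (telSC f).g := (ModuleCat.epi_iff_surjective _).2 (telP_surjective f)
  refine ShortComplex.ShortExact.mk ?_
  rw [ShortComplex.moduleCat_exact_iff]
  exact fun c hc => exists_telD_eq f hc

end Resolution

variable {M : Type u} [AddCommGroup M] [Module A M]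

/-- A map out of the free module on `ℕ`, as a sequence. -/
theorem comp_telD (f : A) (g : (ℕ →₀ A) →ₗ[A] M) (i : ℕ) :
    (g ∘ₗ telD f) (Finsupp.single i 1) = tel f M (fun j => g (Finsupp.single j 1)) i := by
  rw [LinearMap.comp_apply, telD, Finsupp.linearCombination_single, one_smul, map_sub, tel_apply,
    ← Finsupp.smul_single_one (i + 1) f, map_smul]

open Abelian in
theorem ext_zero_subsingleton_iff (f : A) :
    Subsingleton (Ext (ModuleCat.of A (Localization.Away f)) (ModuleCat.of A M) 0)
      ↔ Function.Injective (tel f M) := by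
  constructor
  · intro h
    rw [injective_iff_map_eq_zero]
    intro x hx
    let g : (ℕ →₀ A) →ₗ[A] M := Finsupp.linearCombination A x
    have hg : g ∘ₗ telD f = 0 := Finsupp.lhom_ext' fun i => LinearMap.ext_ring (by
      show (g ∘ₗ telD f) (Finsupp.single i 1) = 0
      rw [comp_telD, show (fun j => g (Finsupp.single j 1)) = x from funext fun j => by simp [g]]
      exact congrFun hx i)
    obtain ⟨y, hy⟩ := Ext.contravariant_sequence_exact₂ (telSC_shortExact f) (ModuleCat.of A M)
      (Ext.mk₀ (ModuleCat.ofHom g)) (by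
        rw [Ext.mk₀_comp_mk₀]
        have : (telSC f).f ≫ ModuleCat.ofHom g = 0 := ModuleCat.hom_ext hg
        rw [this, Ext.mk₀_zero])
    have h' : Subsingleton (Ext (telSC f).X₃ (ModuleCat.of A M) 0) := h
    rw [h'.elim y 0, Ext.comp_zero] at hy
    have hg0 : ModuleCat.ofHom g = 0 := (Ext.mk₀_bijective _ _).1 (hy.symm.trans (Ext.mk₀_zero _ _).symm)
    funext i
    have := congrArg (fun φ => φ.hom (Finsupp.single i 1)) hg0
    simpa [g] using this
  · intro h
    refine subsingleton_of_forall_eq 0 fun y => ?_
    obtain ⟨φ, rfl⟩ := (Ext.mk₀_bijective _ _).2 y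
    have hx : (fun i => φ.hom (telP f (Finsupp.single i 1))) = (0 : ℕ → M) := h (funext fun i => by
      let ψ : (ℕ →₀ A) →ₗ[A] M := φ.hom ∘ₗ telP f
      have e : (ψ ∘ₗ telD f) (Finsupp.single i 1) = 0 := by simp [ψ, telP_telD]
      rw [map_zero]
      exact (comp_telD f ψ i).symm.trans e)
    have : φ = 0 := by
      refine ModuleCat.hom_ext (LinearMap.ext fun z => ?_)
      obtain ⟨c, rfl⟩ := telP_surjective f z
      have : φ.hom ∘ₗ telP f = 0 := Finsupp.lhom_ext' fun i => LinearMap.ext_ring (congrFun hx i)
      exact LinearMap.congr_fun this c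
    rw [this, Ext.mk₀_zero]

open Abelian in
theorem ext_one_subsingleton_iff (f : A) :
    Subsingleton (Ext (ModuleCat.of A (Localization.Away f)) (ModuleCat.of A M) 1)
      ↔ Function.Surjective (tel f M) := by
  constructor
  · intro h y
    let g : (ℕ →₀ A) →ₗ[A] M := Finsupp.linearCombination A y
    obtain ⟨z, hz⟩ := Ext.contravariant_sequence_exact₁ (telSC_shortExact f) (ModuleCat.of A M)
      (Ext.mk₀ (ModuleCat.ofHom g)) (show 1 + 0 = 1 by rfl)
      ((h : Subsingleton (Ext (telSC f).X₃ (ModuleCat.of A M) 1)).elim _ _)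
    obtain ⟨φ, rfl⟩ := (Ext.mk₀_bijective _ _).2 z
    rw [Ext.mk₀_comp_mk₀] at hz
    have hc := (Ext.mk₀_bijective _ _).1 hz
    let ψ : (ℕ →₀ A) →ₗ[A] M := φ.hom
    refine ⟨fun j => ψ (Finsupp.single j 1), funext fun i => ?_⟩
    have h2 : ψ ∘ₗ telD f = g := congrArg ModuleCat.Hom.hom hc
    rw [← comp_telD f ψ i, h2]
    simp [g]
  · intro h
    refine subsingleton_of_forall_eq 0 fun y => ?_
    haveI : Projective (telSC f).X₂ :=
      (IsProjective.iff_projective (ModuleCat.of A (ℕ →₀ A))).1 inferInstance
    obtain ⟨z, hz⟩ := Ext.contravariant_sequence_exact₃ (telSC_shortExact f) (ModuleCat.of A M) y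
      (Ext.eq_zero_of_projective _) (show 1 + 0 = 1 by rfl)
    obtain ⟨g, rfl⟩ := (Ext.mk₀_bijective _ _).2 z
    obtain ⟨x, hx⟩ := h fun i => g.hom (Finsupp.single i 1)
    have : g = (telSC f).f ≫ ModuleCat.ofHom (Finsupp.linearCombination A x) := by
      refine ModuleCat.hom_ext (Finsupp.lhom_ext' fun i => LinearMap.ext_ring ?_)
      show g.hom (Finsupp.single i 1) = (Finsupp.linearCombination A x ∘ₗ telD f) (Finsupp.single i 1)
      rw [comp_telD]
      simpa using (congrFun hx i).symm
    rw [← hz, this, ← Ext.mk₀_comp_mk₀, ← Ext.comp_assoc_of_second_deg_zero,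
      (telSC_shortExact f).extClass_comp, Ext.zero_comp]
    rfl

open Abelian in
theorem ext_add_two_subsingleton (f : A) (n : ℕ) :
    Subsingleton (Ext (ModuleCat.of A (Localization.Away f)) (ModuleCat.of A M) (n + 2)) := by
  refine subsingleton_of_forall_eq 0 fun y => ?_
  haveI : Projective (telSC f).X₂ :=
    (IsProjective.iff_projective (ModuleCat.of A (ℕ →₀ A))).1 inferInstance
  haveI : Projective (telSC f).X₁ :=
    (IsProjective.iff_projective (ModuleCat.of A (ℕ →₀ A))).1 inferInstance
  obtain ⟨z, hz⟩ := Ext.contravariant_sequence_exact₃ (telSC_shortExact f) (ModuleCat.of A M) y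
    (Ext.eq_zero_of_projective _) (show 1 + (n + 1) = n + 2 by omega)
  rw [← hz, Abelian.Ext.eq_zero_of_projective z, Abelian.Ext.comp_zero]
  rfl

/-- Morphisms from a module to a shift of a module of negative degree vanish. -/
theorem subsingleton_hom_shift_neg (P N : ModuleCat.{u} A) (n : ℤ) (hn : n < 0) :
    Subsingleton ((DerivedCategory.singleFunctor (ModuleCat.{u} A) 0).obj P ⟶
      ((DerivedCategory.singleFunctor (ModuleCat.{u} A) 0).obj N)⟦n⟧) := by
  refine subsingleton_of_forall_eq 0 fun φ => ?_
  have h1 : DerivedCategory.TStructure.t.IsLE ((DerivedCategory.singleFunctor (ModuleCat.{u} A) 0).obj P) 0 :=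
    inferInstanceAs (((DerivedCategory.singleFunctor (ModuleCat.{u} A) 0).obj P).IsLE 0)
  haveI : DerivedCategory.TStructure.t.IsGE ((DerivedCategory.singleFunctor (ModuleCat.{u} A) 0).obj N) 0 :=
    inferInstanceAs (((DerivedCategory.singleFunctor (ModuleCat.{u} A) 0).obj N).IsGE 0)
  have h2 := DerivedCategory.TStructure.t.isGE_shift ((DerivedCategory.singleFunctor (ModuleCat.{u} A) 0).obj N)
    0 n (-n) (by omega)
  exact DerivedCategory.TStructure.t.zero_of_isLE_of_isGE φ 0 (-n) (by omega) h1 h2

variable (I : Ideal A) (M)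

/-- The telescope criterion. -/
theorem isDerivedComplete_inD_iff :
    DRing.IsDerivedComplete I (Dual.inD A M) ↔ ∀ f ∈ I, Function.Bijective (tel f M) := by
  constructor
  · intro h f hf
    refine ⟨(ext_zero_subsingleton_iff f).1 ?_, (ext_one_subsingleton_iff f).1 ?_⟩
    · exact @Equiv.subsingleton _ _ Abelian.Ext.homEquiv (h f hf ((0 : ℕ) : ℤ))
    · exact @Equiv.subsingleton _ _ Abelian.Ext.homEquiv (h f hf ((1 : ℕ) : ℤ))
  · intro h f hf n
    rcases n with n | n
    · haveI : Subsingleton (Abelian.Ext (ModuleCat.of A (Localization.Away f)) (ModuleCat.of A M) n) := by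
        rcases n with _ | _ | n
        · exact (ext_zero_subsingleton_iff f).2 (h f hf).1
        · exact (ext_one_subsingleton_iff f).2 (h f hf).2
        · exact ext_add_two_subsingleton f n
      exact Abelian.Ext.homEquiv.symm.subsingleton
    · exact subsingleton_hom_shift_neg _ _ _ (Int.negSucc_lt_zero n)

end Groth.Agent.DRingComplete
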