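import Groth.Agent.DRingComplete.Modules
import Mathlib.RingTheory.PowerSeries.Ideal
import Mathlib.RingTheory.PowerSeries.Inverse
import Mathlib.RingTheory.AdicCompletion.Functoriality
import Mathlib.RingTheory.AdicCompletion.Algebra
import Mathlib.RingTheory.AdicCompletion.Noetherian
import Mathlib.RingTheory.Finiteness.Cardinality

/-!
# Derived complete modules, finite modulo the ideal, over Noetherian rings
-/

universe u

namespace Groth.Agent.DRingComplete

open PowerSeries

set_option linter.style.haveILetI false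

section Sum

variable {A : Type u} [CommRing A] {M : Type u} [AddCommGroup M] [Module A M] {f : A}
  (h : Function.Bijective (tel f M))

/-- `∑ fⁱ xᵢ`, defined by the telescope equation. -/
noncomputable def tsumF : (ℕ → M) →ₗ[A] M :=
  (LinearMap.proj (R := A) (φ := fun _ : ℕ => M) 0).comp (LinearEquiv.ofBijective (tel f M) h).symm.toLinearMap

theorem tsumF_eq {x : ℕ → M} (z : ℕ → M) (hz : tel f M z = x) : tsumF h x = z 0 := by
  subst hz
  exact congrFun ((LinearEquiv.ofBijective (tel f M) h).symm_apply_apply z) 0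

theorem tsumF_comp (u : M →ₗ[A] M) (x : ℕ → M) : tsumF h (fun i => u (x i)) = u (tsumF h x) := by
  obtain ⟨z, rfl⟩ := h.2 x
  rw [tsumF_eq h z rfl, tsumF_eq h (fun i => u (z i)) (tel_comp u f z)]

theorem tsumF_tsumF (x : ℕ → ℕ → M) :
    tsumF h (fun i => tsumF h (x i)) = tsumF h (fun k => ∑ i ∈ Finset.range (k + 1), x i (k - i)) := by
  choose y hy using fun i => h.2 (x i)
  have hy' : ∀ i j, y i j - f • y i (j + 1) = x i j := fun i j => congrFun (hy i) j
  obtain ⟨w, hw⟩ := h.2 fun i => y i 0
  have hw' : ∀ i, w i - f • w (i + 1) = y i 0 := fun i => congrFun hw i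
  rw [show (fun i => tsumF h (x i)) = fun i => y i 0 from funext fun i => tsumF_eq h _ (hy i), tsumF_eq h _ hw,
    tsumF_eq h (fun k => w k + ∑ i ∈ Finset.range k, y i (k - i)) (funext fun k => ?_)]
  · simp
  · simp only [tel_apply, smul_add, Finset.smul_sum]
    rw [Finset.sum_range_succ, show k + 1 - k = 1 by omega, Finset.sum_range_succ (fun i => x i (k - i)), Nat.sub_self,
      ← hy', ← hw', zero_add,
      show ∑ i ∈ Finset.range k, x i (k - i) = ∑ i ∈ Finset.range k, (y i (k - i) - f • y i (k + 1 - i)) from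
        Finset.sum_congr rfl fun i hi => by
          rw [← hy' i (k - i), show k - i + 1 = k + 1 - i by have := Finset.mem_range.1 hi; omega],
      Finset.sum_sub_distrib]
    abel

/-- The action of power series. -/
noncomputable def pAct (a : PowerSeries A) : Module.End A M :=
  tsumF h ∘ₗ LinearMap.pi fun i => coeff i a • LinearMap.id

theorem pAct_apply (a : PowerSeries A) (m : M) : pAct h a m = tsumF h (fun i => coeff i a • m) := rfl

/-- `A[[X]]` acts through `X = f`. -/
noncomputable def pHom : PowerSeries A →+* Module.End A M where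
  toFun := pAct h
  map_one' := LinearMap.ext fun m => by
    rw [pAct_apply, Module.End.one_apply]
    refine (tsumF_eq h (fun i => if i = 0 then m else 0) (funext fun i => ?_))
    rcases i with _ | i <;> simp
  map_mul' a b := LinearMap.ext fun m => by
    rw [Module.End.mul_apply, pAct_apply, pAct_apply, pAct_apply]
    have h1 : (fun i => coeff i a • tsumF h (fun j => coeff j b • m)) =
        fun i => tsumF h (fun j => coeff i a • coeff j b • m) :=
      funext fun i => (tsumF_comp h (coeff i a • LinearMap.id) _).symm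
    rw [h1, tsumF_tsumF]
    congr 1
    funext k
    rw [coeff_mul, Finset.Nat.sum_antidiagonal_eq_sum_range_succ (fun i j => coeff i a * coeff j b), Finset.sum_smul]
    exact Finset.sum_congr rfl fun i _ => mul_smul _ _ _
  map_zero' := LinearMap.ext fun m => by
    rw [pAct_apply, LinearMap.zero_apply]
    exact tsumF_eq h 0 (funext fun i => by simp)
  map_add' a b := LinearMap.ext fun m => by
    rw [LinearMap.add_apply, pAct_apply, pAct_apply, pAct_apply, ← map_add]
    congr 1
    funext i
    simp [add_smul]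

theorem pHom_X (m : M) : pHom h X m = f • m := by
  refine tsumF_eq h (fun i => if i = 0 then f • m else if i = 1 then m else 0) (funext fun i => ?_)
  rcases i with _ | _ | i <;> simp [coeff_X]

theorem pHom_C (a : A) (m : M) : pHom h (C a) m = a • m := by
  refine tsumF_eq h (fun i => if i = 0 then a • m else 0) (funext fun i => ?_)
  rcases i with _ | i <;> simp [coeff_C]

end Sum

variable {A : Type u} [CommRing A]

theorem tel_pi_surjective {ι : Type u} {M : Type u} [AddCommGroup M] [Module A M] {f : A}
    (h : Function.Surjective (tel f M)) : Function.Surjective (tel f (ι → M)) := fun y => by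
  choose x hx using fun j => h fun i => y i j
  exact ⟨fun i j => x j i, funext fun i => funext fun j => congrFun (hx j) i⟩

theorem tel_X_surjective : Function.Surjective (tel (X : PowerSeries A) (PowerSeries A)) := fun y => by
  refine ⟨fun i => PowerSeries.mk fun m => ∑ j ∈ Finset.range (m + 1), coeff (m - j) (y (i + j)), funext fun i => ?_⟩
  ext m
  rcases m with _ | m
  · simp
  · simp [Finset.sum_range_succ' _ (m + 1), coeff_succ_X_mul, add_assoc, add_comm 1]

theorem finite_of_X {Q : Type u} [AddCommGroup Q] [Module (PowerSeries A) Q]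
    (h : Function.Bijective (tel (X : PowerSeries A) Q)) {k : ℕ} (m : Fin k → Q)
    (hm : ∀ x : Q, ∃ c : Fin k → PowerSeries A, ∃ y : Q, x = ∑ i, c i • m i + (X : PowerSeries A) • y) :
    Module.Finite (PowerSeries A) Q := by
  let φ : (ULift.{u} (Fin k) → PowerSeries A) →ₗ[PowerSeries A] Q :=
    Fintype.linearCombination (PowerSeries A) fun i => m i.down
  have hb : ∀ g ∈ [(X : PowerSeries A)], Function.Bijective (tel g (Q ⧸ LinearMap.range φ)) := fun g hg => by
    rw [List.mem_singleton] at hg
    subst hg
    exact bijective_coker φ _ (tel_pi_surjective tel_X_surjective) h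
  have hsub := subsingleton_of_smul_eq_top [(X : PowerSeries A)] _ hb (by
    rintro q -
    obtain ⟨x, rfl⟩ := Submodule.Quotient.mk_surjective _ q
    obtain ⟨c, y, rfl⟩ := hm x
    have h0 : (Submodule.Quotient.mk (∑ i, c i • m i) : Q ⧸ LinearMap.range φ) = 0 :=
      (Submodule.Quotient.mk_eq_zero _).2 ⟨fun i => c i.down, by
        rw [Fintype.linearCombination_apply]
        exact Equiv.ulift.sum_comp fun i => c i • m i⟩
    rw [Submodule.Quotient.mk_add, h0, zero_add, Submodule.Quotient.mk_smul]
    exact Submodule.smul_mem_smul (Ideal.subset_span (by simp)) trivial)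
  exact Module.Finite.of_surjective φ fun x =>
    (Submodule.Quotient.mk_eq_zero _).1 (hsub.elim (Submodule.Quotient.mk x : Q ⧸ LinearMap.range φ) 0)

theorem exists_ring : ∀ (n : ℕ) (A : Type u) [CommRing A] [IsNoetherianRing A] (l : List A), l.length = n →
    ∀ (M : Type u) [AddCommGroup M] [Module A M], (∀ g ∈ l, Function.Bijective (tel g M)) →
    Module.Finite A (M ⧸ Ideal.span {a | a ∈ l} • (⊤ : Submodule A M)) →
    ∃ (S : Type u) (_ : CommRing S) (_ : IsNoetherianRing S) (ψ : A →+* S) (_ : Module S M),
      (∀ a (m : M), ψ a • m = a • m) ∧ Module.Finite S M ∧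
      (∀ a, a ∈ Ideal.jacobson (⊥ : Ideal A) → ψ a ∈ Ideal.jacobson (⊥ : Ideal S)) ∧
      ∀ g ∈ l, ∃ s ∈ Ideal.jacobson (⊥ : Ideal S), ∀ m : M, s • m = g • m := by
  intro n
  induction n with
  | zero =>
    intro A _ _ l hl M _ _ _ hfin
    obtain rfl := List.length_eq_zero_iff.1 hl
    haveI := hfin
    have hbot : Ideal.span {a : A | a ∈ ([] : List A)} • (⊤ : Submodule A M) = ⊥ := by simp
    exact ⟨A, _, ‹_›, RingHom.id A, ‹_›, fun _ _ => rfl,
      Module.Finite.equiv (Submodule.quotEquivOfEqBot _ hbot), fun _ ha => ha, by simp⟩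
  | succ n ih =>
    intro A _ _ l hl M _ _ hc hfin
    obtain ⟨f, l, rfl⟩ : ∃ f l', l = f :: l' := by
      cases l with
      | nil => simp at hl
      | cons f l => exact ⟨f, l, rfl⟩
    have hf := hc f (List.mem_cons_self ..)
    letI : Module (PowerSeries A) M := Module.compHom M (pHom hf)
    have hX : ∀ m : M, (X : PowerSeries A) • m = f • m := pHom_X hf
    have hC : ∀ (a : A) (m : M), (C a : PowerSeries A) • m = a • m := pHom_C hf
    have htC : ∀ a : A, ⇑(tel (C a : PowerSeries A) M) = ⇑(tel a M) := fun a => funext fun x => funext fun i => by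
      rw [tel_apply, tel_apply, hC]
    have htX : ⇑(tel (X : PowerSeries A) M) = ⇑(tel f M) := funext fun x => funext fun i => by
      rw [tel_apply, tel_apply, hX]
    have hc' : ∀ g ∈ l.map (C : A →+* PowerSeries A), Function.Bijective (tel g M) := by
      intro g hg
      obtain ⟨a, ha, rfl⟩ := List.mem_map.1 hg
      rw [htC]
      exact hc a (List.mem_cons_of_mem _ ha)
    set I' := Ideal.span {a | a ∈ l.map (C : A →+* PowerSeries A)} with hI'
    let v : ULift.{u} (Fin (l.map (C : A →+* PowerSeries A)).length) → PowerSeries A :=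
      fun i => (l.map (C : A →+* PowerSeries A)).get i.down
    let U : (ULift.{u} (Fin (l.map (C : A →+* PowerSeries A)).length) → M) →ₗ[PowerSeries A] M :=
      ∑ i, v i • LinearMap.proj i
    have hv : ∀ i, v i ∈ I' := fun i => Ideal.subset_span (List.get_mem _ _)
    have hU : LinearMap.range U = I' • ⊤ := by
      refine le_antisymm ?_ (Submodule.smul_le.2 fun r hr x _ => ?_)
      · rintro _ ⟨z, rfl⟩
        simp only [U, LinearMap.sum_apply, LinearMap.smul_apply]
        exact Submodule.sum_mem _ fun i _ => Submodule.smul_mem_smul (hv i) trivial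
      · have hr' : r ∈ Ideal.span (Set.range v) := by
          refine Ideal.span_mono ?_ hr
          intro a ha
          obtain ⟨i, hi⟩ := List.mem_iff_get.1 ha
          exact ⟨⟨i⟩, hi⟩
        obtain ⟨c, rfl⟩ := Ideal.mem_span_range_iff_exists_fun.1 hr'
        refine ⟨fun i => c i • x, ?_⟩
        simp only [U, LinearMap.sum_apply, LinearMap.smul_apply, LinearMap.proj_apply, Finset.sum_smul, smul_smul, mul_comm]
    have hQ : Function.Bijective (tel (X : PowerSeries A) (M ⧸ I' • (⊤ : Submodule (PowerSeries A) M))) := by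
      refine tel_linearEquiv (Submodule.quotEquivOfEq _ _ hU) _ (bijective_coker U _ ?_ ?_)
      · exact tel_pi_surjective (by rw [htX]; exact hf.2)
      · rw [htX]; exact hf
    haveI := hfin
    obtain ⟨k, q, hq⟩ := Module.Finite.exists_fin (R := A)
      (M := M ⧸ Ideal.span {a | a ∈ f :: l} • (⊤ : Submodule A M))
    choose m hm using fun i => Submodule.Quotient.mk_surjective _ (q i)
    have hfin' : Module.Finite (PowerSeries A) (M ⧸ I' • (⊤ : Submodule (PowerSeries A) M)) := by
      refine finite_of_X hQ (fun i => Submodule.Quotient.mk (m i)) fun x => ?_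
      obtain ⟨x, rfl⟩ := Submodule.Quotient.mk_surjective _ x
      obtain ⟨c, hcx⟩ := Submodule.mem_span_range_iff_exists_fun A |>.1 (hq.ge (Submodule.mem_top (x := Submodule.Quotient.mk x)))
      refine ⟨fun i => C (c i), ?_⟩
      have hmem : x - ∑ i, c i • m i ∈ Ideal.span {a | a ∈ f :: l} • (⊤ : Submodule A M) := by
        refine (Submodule.Quotient.eq _).1 ?_
        rw [← Submodule.mkQ_apply, ← Submodule.mkQ_apply, map_sum, Submodule.mkQ_apply, ← hcx]
        exact Finset.sum_congr rfl fun i _ => by rw [map_smul, Submodule.mkQ_apply, hm]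
      have key : ∀ z, z ∈ Ideal.span {a | a ∈ f :: l} • (⊤ : Submodule A M) →
          ∃ y, (Submodule.Quotient.mk z : M ⧸ I' • (⊤ : Submodule (PowerSeries A) M)) = (X : PowerSeries A) • y := by
        intro z hz
        refine Submodule.smul_induction_on hz (fun r hr y _ => ?_) (fun a b ⟨ya, hya⟩ ⟨yb, hyb⟩ =>
          ⟨ya + yb, by rw [Submodule.Quotient.mk_add, hya, hyb, smul_add]⟩)
        rw [show {a : A | a ∈ f :: l} = insert f {a | a ∈ l} by ext; simp, Ideal.mem_span_insert] at hr
        obtain ⟨a, r', hr', rfl⟩ := hr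
        refine ⟨Submodule.Quotient.mk (a • y), ?_⟩
        have hr'' : (C r' : PowerSeries A) ∈ I' := by
          have h1 := Ideal.mem_map_of_mem (C : A →+* PowerSeries A) hr'
          rw [Ideal.map_span] at h1
          refine Ideal.span_mono ?_ h1
          rintro _ ⟨b, hb, rfl⟩
          exact List.mem_map.2 ⟨b, hb, rfl⟩
        rw [← Submodule.Quotient.mk_smul, Submodule.Quotient.eq, hX, smul_smul, mul_comm f a, ← sub_smul,
          add_sub_cancel_left, ← hC]
        exact Submodule.smul_mem_smul hr'' trivial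
      obtain ⟨y, hy⟩ := key _ hmem
      refine ⟨y, ?_⟩
      rw [← hy, ← Submodule.mkQ_apply, ← Submodule.mkQ_apply, map_sub, map_sum]
      simp only [← hC, map_smul, Submodule.mkQ_apply]
      abel
    obtain ⟨S, _, _, ψ, _, hψ, hfinS, hjac, hl'⟩ :=
      ih (PowerSeries A) (l.map C) (by simpa using hl) M hc' hfin'
    have hunit : ∀ {φ : PowerSeries A}, constantCoeff φ ∈ Ideal.jacobson (⊥ : Ideal A) →
        φ ∈ Ideal.jacobson (⊥ : Ideal (PowerSeries A)) := fun {φ} hφ => Ideal.mem_jacobson_bot.2 fun y => by
      rw [isUnit_iff_constantCoeff, map_add, map_mul, map_one]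
      exact Ideal.mem_jacobson_bot.1 hφ _
    refine ⟨S, inferInstance, inferInstance, ψ.comp C, inferInstance,
      fun a x => (hψ _ x).trans (hC a x), hfinS, fun a ha => hjac _ (hunit (by simpa using ha)), fun g hg => ?_⟩
    rcases List.mem_cons.1 hg with rfl | hg
    · exact ⟨ψ X, hjac _ (hunit (by simp)), fun x => (hψ _ x).trans (hX x)⟩
    · obtain ⟨s, hs, hsm⟩ := hl' (C g) (List.mem_map.2 ⟨g, hg, rfl⟩)
      exact ⟨s, hs, fun x => (hsm x).trans (hC g x)⟩

theorem isAdicComplete_of_finite_quotient [IsNoetherianRing A] (I : Ideal A) {M : Type u} [AddCommGroup M] [Module A M]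
    (hc : ∀ g ∈ I, Function.Bijective (tel g M))
    (hf : Module.Finite A (M ⧸ I • (⊤ : Submodule A M))) :
    IsAdicComplete I M ∧ Module.Finite (AdicCompletion I A) (AdicCompletion I M) := by
  obtain ⟨s, hs⟩ := IsNoetherian.noetherian I
  have hl : Ideal.span {a | a ∈ s.toList} = I := by
    rw [← hs]; simp [Ideal.span]
  have hcl : ∀ g ∈ s.toList, Function.Bijective (tel g M) := fun g hg => hc g (hl ▸ Ideal.subset_span hg)
  obtain ⟨S, _, _, ψ, _, hψ, hfin, -, hgen⟩ := exists_ring _ A s.toList rfl M hcl (by rw [hl]; exact hf)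
  haveI := hfin
  let K : Ideal A :=
    { carrier := {r | ∃ t ∈ Ideal.jacobson (⊥ : Ideal S), ∀ m : M, t • m = r • m}
      zero_mem' := ⟨0, Submodule.zero_mem _, fun m => by simp⟩
      add_mem' := fun {a b} ⟨t, ht, hta⟩ ⟨t', ht', htb⟩ =>
        ⟨t + t', Submodule.add_mem _ ht ht', fun m => by rw [add_smul, add_smul, hta, htb]⟩
      smul_mem' := fun c {a} ⟨t, ht, hta⟩ => ⟨ψ c * t, Ideal.mul_mem_left _ _ ht, fun m => by
        rw [mul_smul, hψ, hta, smul_smul, smul_eq_mul]⟩ }
  have hIK : I ≤ K := hl ▸ Ideal.span_le.2 fun g hg => hgen g hg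
  have hpow : ∀ (n : ℕ) (x : M), x ∈ (I ^ n • ⊤ : Submodule A M) →
      x ∈ (Ideal.jacobson (⊥ : Ideal S) ^ n • ⊤ : Submodule S M) := by
    intro n
    induction n with
    | zero => simp
    | succ n ih =>
      intro x hx
      rw [pow_succ', Submodule.mul_smul] at hx
      refine Submodule.smul_induction_on hx (fun r hr y hy => ?_) (fun _ _ => Submodule.add_mem _)
      obtain ⟨t, ht, hty⟩ := hIK hr
      rw [← hty, pow_succ', Submodule.mul_smul]
      exact Submodule.smul_mem_smul ht (ih y hy)
  haveI : IsHausdorff I M := ⟨fun x hx => by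
    have h0 : x ∈ (⨅ n : ℕ, Ideal.jacobson (⊥ : Ideal S) ^ n • ⊤ : Submodule S M) :=
      (Submodule.mem_iInf _).2 fun n => hpow n x (SModEq.zero.1 (hx n))
    rw [Ideal.iInf_pow_smul_eq_bot_of_le_jacobson _ le_rfl] at h0
    exact (Submodule.mem_bot S).1 h0⟩
  haveI := isPrecomplete_of_bijective s.toList hl hcl
  refine ⟨⟨⟩, ?_⟩
  haveI := hf
  obtain ⟨k, q, hq⟩ := Module.Finite.exists_fin' A (M ⧸ I • (⊤ : Submodule A M))
  obtain ⟨g, hg⟩ := Module.projective_lifting_property (Submodule.mkQ _) q (Submodule.mkQ_surjective _)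
  haveI : Module.Finite (AdicCompletion I A) (AdicCompletion I (Fin k → A)) :=
    Module.Finite.equiv (AdicCompletion.piEquivFin I k).symm
  exact Module.Finite.of_surjective (AdicCompletion.map I g)
    (AdicCompletion.map_surjective_of_mkQ_comp_surjective (by rw [hg]; exact hq))

end Groth.Agent.DRingComplete
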