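import Groth.Agent.DRingComplete.Criterion
import Mathlib.RingTheory.AdicCompletion.Basic
import Mathlib.RingTheory.Henselian
import Mathlib.RingTheory.Ideal.Quotient.Operations
import Mathlib.Tactic

/-!
# Consequences of the telescope criterion for derived complete modules
-/

universe u

namespace Groth.Agent.DRingComplete

open Pointwise

variable {A : Type u} [CommRing A] {M N : Type u} [AddCommGroup M] [Module A M] [AddCommGroup N] [Module A N]

theorem tel_comp (u : M →ₗ[A] N) (f : A) (x : ℕ → M) : tel f N (fun i => u (x i)) = fun i => u (tel f M x i) :=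
  funext fun i => by simp

theorem bijective_ker (u : M →ₗ[A] N) (f : A) (hM : Function.Bijective (tel f M))
    (hN : Function.Injective (tel f N)) : Function.Bijective (tel f (LinearMap.ker u)) := by
  refine ⟨fun x y h => ?_, fun y => ?_⟩
  · have := hM.1 (a₁ := fun i => (x i : M)) (a₂ := fun i => (y i : M)) (funext fun i => by
      simpa using congrArg Subtype.val (congrFun h i))
    exact funext fun i => Subtype.ext (congrFun this i)
  · obtain ⟨x, hx⟩ := hM.2 fun i => (y i : M)
    have h0 : (fun i => u (x i)) = 0 := hN (by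
      rw [map_zero, tel_comp, hx]
      exact funext fun i => (y i).2)
    exact ⟨fun i => ⟨x i, congrFun h0 i⟩, funext fun i => Subtype.ext (by simpa using congrFun hx i)⟩

theorem bijective_coker (u : M →ₗ[A] N) (f : A) (hM : Function.Surjective (tel f M))
    (hN : Function.Bijective (tel f N)) : Function.Bijective (tel f (N ⧸ LinearMap.range u)) := by
  refine ⟨(injective_iff_map_eq_zero _).2 fun x hx => ?_, fun y => ?_⟩
  · choose x' hx' using fun i => Submodule.Quotient.mk_surjective _ (x i)
    have h : ∀ i, tel f N x' i ∈ LinearMap.range u := fun i => by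
      rw [← Submodule.Quotient.mk_eq_zero]
      simpa [← hx'] using congrFun hx i
    choose m hm using h
    obtain ⟨z, rfl⟩ := hM m
    have h0 : x' = fun i => u (z i) := hN.1 (funext fun i => by rw [tel_comp]; exact (hm i).symm)
    funext i
    rw [← hx' i, h0, Pi.zero_apply, Submodule.Quotient.mk_eq_zero]
    exact ⟨z i, rfl⟩
  · choose y' hy' using fun i => Submodule.Quotient.mk_surjective _ (y i)
    obtain ⟨x, hx⟩ := hN.2 y'
    exact ⟨fun i => Submodule.Quotient.mk (x i), funext fun i => by
      rw [← hy' i, ← congrFun hx i]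
      rfl⟩

theorem bijective_extension (M₁ : Submodule A M) (f : A) (h1 : Function.Bijective (tel f M₁))
    (h3 : Function.Bijective (tel f (M ⧸ M₁))) : Function.Bijective (tel f M) := by
  refine ⟨(injective_iff_map_eq_zero _).2 fun x hx => ?_, fun y => ?_⟩
  · have h0 : (fun i => M₁.mkQ (x i)) = 0 := h3.1 (by
      rw [map_zero, tel_comp, hx]
      exact funext fun i => map_zero M₁.mkQ)
    have hmem : ∀ i, x i ∈ M₁ := fun i => (Submodule.Quotient.mk_eq_zero _).1 (congrFun h0 i)
    have h1' : (fun i => (⟨x i, hmem i⟩ : M₁)) = 0 := h1.1 (by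
      rw [map_zero]
      exact funext fun i => Subtype.ext (by simpa using congrFun hx i))
    exact funext fun i => congrArg Subtype.val (congrFun h1' i)
  · obtain ⟨x', hx'⟩ := h3.2 fun i => M₁.mkQ (y i)
    choose x hx using fun i => Submodule.Quotient.mk_surjective M₁ (x' i)
    have hmem : ∀ i, y i - tel f M x i ∈ M₁ := fun i => by
      rw [← Submodule.Quotient.eq]
      refine (congrFun hx' i).symm.trans ?_
      simp [← hx]
    obtain ⟨z, hz⟩ := h1.2 fun i => ⟨_, hmem i⟩
    refine ⟨fun i => x i + (z i : M), funext fun i => ?_⟩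
    have := congrArg Subtype.val (congrFun hz i)
    simp only [tel_apply, Submodule.coe_sub, Submodule.coe_smul, smul_add] at this ⊢
    linear_combination (norm := abel) this

theorem tel_linearEquiv (e : M ≃ₗ[A] N) (f : A) (h : Function.Bijective (tel f M)) :
    Function.Bijective (tel f N) := by
  have hE : ⇑(tel f N) = (fun y i => e (y i)) ∘ (tel f M) ∘ (fun x i => e.symm (x i)) :=
    funext fun x => funext fun i => by simp
  rw [hE]
  refine Function.Bijective.comp ⟨fun x y hxy => funext fun i => e.injective (congrFun hxy i),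
    fun y => ⟨fun i => e.symm (y i), funext fun i => by simp⟩⟩ (h.comp ⟨fun x y hxy => funext fun i =>
      e.symm.injective (congrFun hxy i), fun y => ⟨fun i => e (y i), funext fun i => by simp⟩⟩)

/-! ### Adically complete modules -/

theorem bijective_of_isAdicComplete (I : Ideal A) [IsAdicComplete I M] {f : A} (hf : f ∈ I) :
    Function.Bijective (tel f M) := by
  refine ⟨(injective_iff_map_eq_zero _).2 fun x hx => ?_, fun y => ?_⟩
  · have hs : ∀ i, x i = f • x (i + 1) := fun i => sub_eq_zero.1 (congrFun hx i)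
    have hn : ∀ n i, x i = f ^ n • x (i + n) := fun n => by
      induction n with
      | zero => simp
      | succ n ih => exact fun i => by rw [ih i, hs (i + n), smul_smul, ← pow_succ]; rfl
    funext i
    refine IsHausdorff.haus (inferInstance : IsHausdorff I M) _ fun n => ?_
    rw [SModEq.zero, hn n i]
    exact Submodule.smul_mem_smul (Ideal.pow_mem_pow hf n) trivial
  · let S : ℕ → ℕ → M := fun i n => ∑ j ∈ Finset.range n, f ^ j • y (i + j)
    have hS : ∀ i, ∃ L, ∀ n, S i n ≡ L [SMOD (I ^ n • ⊤ : Submodule A M)] := fun i => by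
      refine IsPrecomplete.prec (inferInstance : IsPrecomplete I M) fun {m n} hmn => ?_
      rw [SModEq.sub_mem, show S i n = S i m + ∑ j ∈ Finset.Ico m n, f ^ j • y (i + j) from
        (Finset.sum_range_add_sum_Ico _ hmn).symm, sub_add_cancel_left]
      refine Submodule.neg_mem _ (Submodule.sum_mem _ fun j hj => ?_)
      exact Submodule.smul_mem_smul (Ideal.pow_le_pow_right (Finset.mem_Ico.1 hj).1 (Ideal.pow_mem_pow hf j)) trivial
    choose L hL using hS
    refine ⟨L, funext fun i => ?_⟩
    rw [← sub_eq_zero]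
    refine IsHausdorff.haus (inferInstance : IsHausdorff I M) _ fun n => ?_
    rw [SModEq.zero]
    have h1 := SModEq.sub_mem.1 (hL i (n + 1))
    have h2 := SModEq.sub_mem.1 (hL (i + 1) n)
    have h3 : S i (n + 1) = y i + f • S (i + 1) n := by
      simp only [S, Finset.sum_range_succ', Finset.smul_sum, smul_smul, ← pow_succ']
      rw [add_comm]
      congr 1
      · simp
      · exact Finset.sum_congr rfl fun j _ => by rw [show i + (j + 1) = i + 1 + j by omega]
    have h1' : S i (n + 1) - L i ∈ (I ^ n • ⊤ : Submodule A M) :=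
      Submodule.smul_mono_left (Ideal.pow_le_pow_right n.le_succ) h1
    have h4 := Submodule.sub_mem _ (Submodule.smul_mem _ f h2) h1'
    rw [h3, smul_sub] at h4
    rw [tel_apply]
    convert h4 using 1
    abel

/-! ### Single elements -/

theorem eq_zero_of_chain {f : A} (h : Function.Injective (tel f M)) (z : ℕ → M)
    (hz : ∀ i, z i = f • z (i + 1)) : z = 0 :=
  h (funext fun i => by simp [← hz i])

theorem mul_iInf_eq_bot {f : A} (h : Function.Injective (tel f M)) :
    (⨅ n : ℕ, Ideal.span {f ^ n}) • (⨅ n : ℕ, (Ideal.span {f ^ n}) • (⊤ : Submodule A M)) = (⊥ : Submodule A M) := by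
  refine Submodule.smul_le.2 (fun a ha x hx => ?_) |> le_bot_iff.1
  rw [Submodule.mem_iInf] at ha hx
  choose an han using fun n => Ideal.mem_span_singleton'.1 (ha n)
  have hx' : ∀ n, ∃ y : M, f ^ n • y = x := fun n => by
    have := hx n
    rw [Submodule.ideal_span_singleton_smul, Submodule.mem_smul_pointwise_iff_exists] at this
    obtain ⟨y, -, hy⟩ := this
    exact ⟨y, hy⟩
  choose xn hxn using hx'
  have hz := eq_zero_of_chain h (fun n => a • xn n) (fun n => by
    show a • xn n = f • a • xn (n + 1)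
    rw [← sub_eq_zero, smul_comm f a, ← smul_sub, ← han n, ← smul_smul, smul_sub (f ^ n), smul_smul, ← pow_succ,
      hxn, hxn, sub_self, smul_zero])
  have h0 : a • xn 0 = 0 := congrFun hz 0
  rw [← hxn 0, pow_zero, one_smul, h0]
  exact Submodule.zero_mem _

theorem subsingleton_of_smul_eq_top : ∀ (l : List A) (M : Type u) [AddCommGroup M] [Module A M],
    (∀ f ∈ l, Function.Bijective (tel f M)) →
    (⊤ : Submodule A M) ≤ Ideal.span {a | a ∈ l} • ⊤ → Subsingleton M := by
  intro l
  induction l with
  | nil =>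
    intro M _ _ _ h
    simp only [List.not_mem_nil] at h
    rw [show Ideal.span {a : A | False} = ⊥ by simp, Submodule.bot_smul] at h
    exact subsingleton_of_forall_eq 0 fun x => (Submodule.mem_bot A).1 (h trivial)
  | cons f l ih =>
    intro M _ _ hc h
    set u : M →ₗ[A] M := f • LinearMap.id
    have hcQ : ∀ g ∈ l, Function.Bijective (tel g (M ⧸ LinearMap.range u)) := fun g hg =>
      bijective_coker u g (hc g (List.mem_cons_of_mem _ hg)).2 (hc g (List.mem_cons_of_mem _ hg))
    have hQ : Subsingleton (M ⧸ LinearMap.range u) := ih _ hcQ (by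
      rintro q -
      obtain ⟨x, rfl⟩ := Submodule.Quotient.mk_surjective _ q
      have hx := h (Submodule.mem_top (x := x))
      have hspan : Ideal.span {a : A | a ∈ f :: l} = Ideal.span {f} ⊔ Ideal.span {a | a ∈ l} := by
        rw [← Ideal.span_union]; congr 1; ext; simp
      rw [hspan, Submodule.sup_smul, Submodule.mem_sup] at hx
      obtain ⟨a, ha, b, hb, rfl⟩ := hx
      rw [Submodule.ideal_span_singleton_smul, Submodule.mem_smul_pointwise_iff_exists] at ha
      obtain ⟨a', -, rfl⟩ := ha
      have h2 := Submodule.mem_map_of_mem (f := (LinearMap.range u).mkQ) hb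
      rw [Submodule.map_smul''] at h2
      have h3 : (Submodule.Quotient.mk (f • a') : M ⧸ LinearMap.range u) = 0 :=
        (Submodule.Quotient.mk_eq_zero _).2 ⟨a', rfl⟩
      rw [Submodule.Quotient.mk_add, h3, zero_add]
      exact Submodule.smul_mono le_rfl le_top h2)
    have hsurj : ∀ x : M, ∃ y, f • y = x := fun x =>
      (Submodule.Quotient.mk_eq_zero _).1 (hQ.elim (Submodule.Quotient.mk x : M ⧸ LinearMap.range u) 0)
    choose d hd using hsurj
    refine subsingleton_of_forall_eq 0 fun x => ?_
    exact congrFun (eq_zero_of_chain (hc f (List.mem_cons_self ..)).1 (fun n => d^[n] x) fun i => by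
      simp only [Function.iterate_succ_apply', hd]) 0

theorem exists_pow_smul_eq_zero {f : A} (h : Function.Bijective (tel f M))
    (ht : ∀ m : M, ∃ n, f ^ n • m = 0) : ∃ n, ∀ m : M, f ^ n • m = 0 := by
  classical
  by_contra hne
  push Not at hne
  let FM : ℕ → Submodule A M := fun n => LinearMap.range ((f ^ n) • (LinearMap.id : M →ₗ[A] M))
  have hFM : ∀ {n x}, x ∈ FM n ↔ ∃ y, f ^ n • y = x := fun {n x} => Iff.rfl
  have hanti : ∀ {a b}, a ≤ b → FM b ≤ FM a := fun {a b} hab x hx => by
    obtain ⟨y, rfl⟩ := hFM.1 hx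
    obtain ⟨c, rfl⟩ := Nat.exists_eq_add_of_le hab
    exact hFM.2 ⟨f ^ c • y, by rw [smul_smul, ← pow_add]⟩
  have hD : ∀ n, ∃ w ∈ FM n, w ∉ FM (n + 1) := by
    intro n
    by_contra hh
    push Not at hh
    obtain ⟨m, hm⟩ := hne n
    have hdiv : ∀ x ∈ FM n, ∃ y ∈ FM n, f • y = x := fun x hx => by
      obtain ⟨z, hz⟩ := hFM.1 (hh x hx)
      exact ⟨f ^ n • z, hFM.2 ⟨z, rfl⟩, by rw [smul_smul, ← pow_succ', hz]⟩
    choose! d hd hd' using hdiv
    have hmem : ∀ i, d^[i] (f ^ n • m) ∈ FM n := fun i => by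
      induction i with
      | zero => exact hFM.2 ⟨m, rfl⟩
      | succ i ih => rw [Function.iterate_succ_apply']; exact hd _ ih
    exact hm (congrFun (eq_zero_of_chain h.1 (fun i => d^[i] (f ^ n • m)) fun i => by
      simp only [Function.iterate_succ_apply', hd' _ (hmem i)]) 0)
  -- build the series: state `(s, J)`, with `y` supported below `J`
  have step : ∀ (k J : ℕ) (s : M), ∃ (m : M) (L : ℕ), J < L ∧ f ^ k • (s + f ^ J • m) ∉ FM (L + k) := by
    intro k J s
    by_cases hs : ∃ L, f ^ k • s ∉ FM L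
    · obtain ⟨L, hL⟩ := hs
      refine ⟨0, max L (J + 1), by omega, ?_⟩
      rw [smul_zero, add_zero]
      exact fun hc => hL (hanti (by omega) hc)
    · push Not at hs
      obtain ⟨w, hw, hw'⟩ := hD (k + J)
      obtain ⟨m, rfl⟩ := hFM.1 hw
      refine ⟨m, k + J + 1, by omega, fun hc => hw' ?_⟩
      have hsum : f ^ k • (s + f ^ J • m) ∈ FM (k + J + 1) := hanti (by omega) hc
      rw [smul_add, smul_smul, ← pow_add] at hsum
      exact (Submodule.add_mem_iff_right _ (hs _)).1 hsum
  choose m L hJL hnot using step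
  let st : ℕ → M × ℕ := fun k => Nat.rec (0, 0) (fun k p => (p.1 + f ^ p.2 • m k p.2 p.1, L k p.2 p.1)) k
  have hst : ∀ k, st (k + 1) = ((st k).1 + f ^ (st k).2 • m k (st k).2 (st k).1, L k (st k).2 (st k).1) := fun k => rfl
  have hJmono : StrictMono fun k => (st k).2 := strictMono_nat_of_lt_succ fun k => by
    show (st k).2 < (st (k + 1)).2
    rw [hst]
    exact hJL k _ _
  let y : ℕ → M := fun i => if hi : ∃ k, (st k).2 = i then m hi.choose i (st hi.choose).1 else 0
  have hy : ∀ k, y (st k).2 = m k (st k).2 (st k).1 := fun k => by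
    have hi : ∃ k', (st k').2 = (st k).2 := ⟨k, rfl⟩
    simp only [y, dif_pos hi]
    rw [hJmono.injective hi.choose_spec]
  have hy0 : ∀ i, (∀ k, (st k).2 ≠ i) → y i = 0 := fun i hi => dif_neg fun ⟨k, hk⟩ => hi k hk
  obtain ⟨x, hx⟩ := h.2 y
  have hexp : ∀ n, x 0 = (∑ i ∈ Finset.range n, f ^ i • y i) + f ^ n • x n := by
    intro n
    induction n with
    | zero => simp
    | succ n ih =>
      have e : x n = y n + f • x (n + 1) := sub_eq_iff_eq_add.1 (congrFun hx n)
      rw [ih, Finset.sum_range_succ, e, smul_add, smul_smul, ← pow_succ]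
      abel
  have hs : ∀ k, (∑ i ∈ Finset.range (st k).2, f ^ i • y i) = (st k).1 := by
    intro k
    induction k with
    | zero => simp [st]
    | succ k ih =>
      have hlt : (st k).2 < (st (k + 1)).2 := hJmono k.lt_succ_self
      rw [← Finset.sum_range_add_sum_Ico _ hlt.le, ih, hst k, Finset.sum_eq_single (st k).2]
      · rw [hy k]
      · intro i hi hne'
        rw [hy0 i fun k' hk' => ?_, smul_zero]
        have h1 := (Finset.mem_Ico.1 hi)
        rcases lt_trichotomy k' k with hk | hk | hk
        · exact absurd (hJmono hk) (by simp only; omega)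
        · exact hne' (hk ▸ hk'.symm)
        · have : (st (k + 1)).2 ≤ (st k').2 := hJmono.monotone hk
          rw [hst k] at this
          simp only at this h1
          omega
      · intro hn
        exact absurd (Finset.mem_Ico.2 ⟨le_rfl, by simpa [hst k] using hlt⟩) hn
  obtain ⟨K, hK⟩ := ht (x 0)
  refine hnot K (st K).2 (st K).1 ?_
  have e := congrArg (f ^ K • ·) (hexp (st (K + 1)).2)
  simp only [hK, hs (K + 1), smul_add, smul_smul, ← pow_add] at e
  rw [hst K] at e
  simp only at e
  rw [eq_neg_of_add_eq_zero_left e.symm]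
  exact Submodule.neg_mem _ (hFM.2 ⟨x (L K (st K).2 (st K).1), by rw [Nat.add_comm]⟩)

/-! ### The completion map -/

theorem pow_succ_sup_le (F J : Ideal A) (n : ℕ) : (F ⊔ J) ^ (n + 1) ≤ F * (F ⊔ J) ^ n ⊔ J ^ (n + 1) := by
  induction n with
  | zero => simp
  | succ n ih =>
    rw [pow_succ]
    refine (Ideal.mul_mono_left ih).trans ?_
    rw [Ideal.sup_mul, mul_assoc, ← pow_succ, Ideal.mul_sup, ← pow_succ J (n + 1)]
    refine sup_le le_sup_left (sup_le (le_sup_of_le_left ?_) le_sup_right)
    rw [mul_comm]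
    exact Ideal.mul_mono_right (Ideal.pow_right_mono le_sup_right _)

theorem exists_decomp (f : A) (J : Ideal A) : ∀ (n : ℕ) (d : M),
    d ∈ ((Ideal.span {f} ⊔ J) ^ n • ⊤ : Submodule A M) →
    ∃ e : ℕ → M, (∀ i ≤ n, e i ∈ (J ^ (n - i) • ⊤ : Submodule A M)) ∧ d = ∑ i ∈ Finset.range (n + 1), f ^ i • e i := by
  intro n
  induction n with
  | zero => exact fun d _ => ⟨fun _ => d, fun i hi => by simp, by simp⟩
  | succ n ih =>
    intro d hd
    have := Submodule.smul_mono_left (pow_succ_sup_le (Ideal.span {f}) J n) hd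
    rw [Submodule.sup_smul, Submodule.mem_sup, Submodule.mul_smul] at this
    obtain ⟨a, ha, b, hb, rfl⟩ := this
    rw [Submodule.ideal_span_singleton_smul, Submodule.mem_smul_pointwise_iff_exists] at ha
    obtain ⟨a', ha', rfl⟩ := ha
    obtain ⟨e, he, rfl⟩ := ih a' ha'
    refine ⟨fun i => if i = 0 then b else e (i - 1), fun i hi => ?_, ?_⟩
    · rcases i with _ | i
      · simpa using hb
      · simpa using he i (by omega)
    · rw [Finset.sum_range_succ' _ (n + 1), Finset.smul_sum]
      simp [smul_smul, pow_succ']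

theorem exists_series : ∀ (l : List A), (∀ f ∈ l, Function.Bijective (tel f M)) → ∀ d : ℕ → M,
    (∀ n, d n ∈ (Ideal.span {a | a ∈ l} ^ n • ⊤ : Submodule A M)) →
    ∃ x : M, ∀ N, x - ∑ n ∈ Finset.range N, d n ∈ (Ideal.span {a | a ∈ l} ^ N • ⊤ : Submodule A M) := by
  intro l
  induction l with
  | nil =>
    intro _ d hd
    have hbot : Ideal.span {a : A | a ∈ ([] : List A)} = ⊥ := by simp
    refine ⟨d 0, fun N => ?_⟩
    rcases N with _ | N
    · simp
    · have : ∀ n, d (n + 1) = 0 := fun n => by
        have := hd (n + 1)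
        rw [hbot, pow_succ, Ideal.mul_bot, Submodule.bot_smul] at this
        exact (Submodule.mem_bot A).1 this
      rw [Finset.sum_range_succ', Finset.sum_eq_zero fun n _ => this n, zero_add, sub_self]
      exact Submodule.zero_mem _
  | cons f l ih =>
    intro hc d hd
    set J := Ideal.span {a | a ∈ l}
    have hspan : Ideal.span {a : A | a ∈ f :: l} = Ideal.span {f} ⊔ J := by
      rw [← Ideal.span_union]; congr 1; ext; simp
    rw [hspan] at hd ⊢
    choose e he hde using fun n => exists_decomp f J n (d n) (hd n)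
    have hrow : ∀ i, ∃ x : M, ∀ N, x - ∑ j ∈ Finset.range N, e (i + j) i ∈ (J ^ N • ⊤ : Submodule A M) := fun i =>
      ih (fun g hg => hc g (List.mem_cons_of_mem _ hg)) (fun j => e (i + j) i) fun j => by
        simpa using he (i + j) i (Nat.le_add_right i j)
    choose r hr using hrow
    obtain ⟨x, hx⟩ := (hc f (List.mem_cons_self ..)).2 r
    have hexp : ∀ n, x 0 = (∑ i ∈ Finset.range n, f ^ i • r i) + f ^ n • x n := by
      intro n
      induction n with
      | zero => simp
      | succ n ih =>
        have e' : x n = r n + f • x (n + 1) := sub_eq_iff_eq_add.1 (congrFun hx n)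
        rw [ih, Finset.sum_range_succ, e', smul_add, smul_smul, ← pow_succ]
        abel
    refine ⟨x 0, fun N => ?_⟩
    have hre : ∑ n ∈ Finset.range N, d n = ∑ i ∈ Finset.range N, f ^ i • ∑ j ∈ Finset.range (N - i), e (i + j) i := by
      simp only [hde, Finset.smul_sum]
      rw [Finset.sum_sigma', Finset.sum_sigma']
      refine Finset.sum_nbij' (fun p => (⟨p.2, p.1 - p.2⟩ : (_ : ℕ) × ℕ)) (fun p => (⟨p.1 + p.2, p.1⟩ : (_ : ℕ) × ℕ))
        ?_ ?_ ?_ ?_ ?_
      · intro p hp; simp at hp ⊢; omega
      · intro p hp; simp at hp ⊢; omega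
      · intro p hp; simp at hp; ext <;> simp; omega
      · intro p hp; simp
      · intro p hp; simp at hp
        rw [show p.snd + (p.fst - p.snd) = p.fst by omega]
    rw [hexp N, hre, add_sub_right_comm, ← Finset.sum_sub_distrib]
    refine Submodule.add_mem _ (Submodule.sum_mem _ fun i hi => ?_) ?_
    · rw [← smul_sub]
      have h1 := Submodule.smul_mem_smul (I := (Ideal.span {f} ⊔ J) ^ i)
        (Ideal.pow_mem_pow (Ideal.mem_sup_left (Ideal.mem_span_singleton_self f)) i) (hr i (N - i))
      rw [← Submodule.mul_smul] at h1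
      refine Submodule.smul_mono_left ?_ h1
      refine (Ideal.mul_mono_right (Ideal.pow_right_mono (le_sup_right (a := Ideal.span {f})) _)).trans ?_
      rw [← pow_add, Nat.add_sub_cancel' (Finset.mem_range.1 hi).le]
    · exact Submodule.smul_mem_smul (Ideal.pow_mem_pow (Ideal.mem_sup_left (Ideal.mem_span_singleton_self f)) N) trivial

theorem isPrecomplete_of_bijective {I : Ideal A} (l : List A) (hl : Ideal.span {a | a ∈ l} = I)
    (hc : ∀ f ∈ l, Function.Bijective (tel f M)) : IsPrecomplete I M := by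
  refine ⟨fun c hcc => ?_⟩
  obtain ⟨x, hx⟩ := exists_series l hc (fun n => c (n + 1) - c n) fun n => by
    rw [hl]
    have := Submodule.neg_mem _ (SModEq.sub_mem.1 (hcc (Nat.le_succ n)))
    rwa [neg_sub] at this
  refine ⟨x + c 0, fun n => ?_⟩
  have h1 := hx n
  rw [hl, Finset.sum_range_sub c] at h1
  rw [SModEq.sub_mem]
  have := Submodule.neg_mem _ h1
  convert this using 1
  abel

/-! ### Rings -/

theorem iInf_pow_pow_eq_bot : ∀ (l : List A) (R : Type u) [CommRing R] [Algebra A R],
    (∀ f ∈ l, Function.Bijective (tel f R)) →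
    (⨅ n : ℕ, ((Ideal.span {a | a ∈ l}).map (algebraMap A R)) ^ n) ^ (2 ^ l.length) = ⊥ := by
  intro l
  induction l with
  | nil =>
    intro R _ _ _
    have : Ideal.span {a : A | a ∈ ([] : List A)} = ⊥ := by simp
    rw [List.length_nil, pow_zero, pow_one, this, Ideal.map_bot]
    exact le_bot_iff.1 ((iInf_le _ 1).trans (by rw [pow_one]))
  | cons f l ih =>
    intro R _ _ hc
    have hspan : Ideal.span {a : A | a ∈ f :: l} = Ideal.span {f} ⊔ Ideal.span {a | a ∈ l} := by
      rw [← Ideal.span_union]; congr 1; ext; simp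
    set F : Ideal R := ⨅ n : ℕ, Ideal.span {algebraMap A R f ^ n} with hF
    have hFF : F ^ 2 = ⊥ := by
      rw [pow_two, ← le_bot_iff, Ideal.mul_le]
      intro r hr s hs
      rw [hF, Ideal.mem_iInf] at hr hs
      choose rn hrn using fun n => Ideal.mem_span_singleton'.1 (hr n)
      choose sn hsn using fun n => Ideal.mem_span_singleton'.1 (hs n)
      have hz := eq_zero_of_chain (hc f (List.mem_cons_self ..)).1 (fun n => r * sn n) (fun n => by
        rw [Algebra.smul_def, ← sub_eq_zero]
        calc r * sn n - algebraMap A R f * (r * sn (n + 1))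
            = rn n * (sn n * algebraMap A R f ^ n - sn (n + 1) * algebraMap A R f ^ (n + 1)) := by
              rw [← hrn n]; ring
          _ = 0 := by rw [hsn, hsn, sub_self, mul_zero])
      have h0 : r * sn 0 = 0 := congrFun hz 0
      rw [Ideal.mem_bot, ← hsn 0, pow_zero, mul_one, h0]
    have hle : (⨅ n : ℕ, ((Ideal.span {a | a ∈ f :: l}).map (algebraMap A R)) ^ n) ^ (2 ^ l.length) ≤ F := by
      refine le_iInf fun m => ?_
      let J := Ideal.span {algebraMap A R f ^ m}
      have hR : ∀ g ∈ l, Function.Bijective (tel g (R ⧸ J)) := fun g hg => by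
        have h := bijective_coker ((f ^ m) • (LinearMap.id : R →ₗ[A] R)) g (hc g (List.mem_cons_of_mem _ hg)).2
          (hc g (List.mem_cons_of_mem _ hg))
        have hrange : LinearMap.range ((f ^ m) • (LinearMap.id : R →ₗ[A] R)) = J.restrictScalars A := by
          ext z
          rw [LinearMap.mem_range, Submodule.restrictScalars_mem, Ideal.mem_span_singleton']
          simp only [LinearMap.smul_apply, LinearMap.id_apply]
          simp only [Algebra.smul_def, map_pow, mul_comm]
        exact tel_linearEquiv ((Submodule.quotEquivOfEq _ _ hrange).trans (Submodule.Quotient.restrictScalarsEquiv A J)) g h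
      have h := ih (R ⧸ J) hR
      refine le_of_le_of_eq ?_ (Ideal.mk_ker (I := J))
      rw [RingHom.ker_eq_comap_bot, ← Ideal.map_le_iff_le_comap, Ideal.map_pow, ← h]
      refine Ideal.pow_right_mono (le_iInf fun n => (Ideal.map_mono (iInf_le _ (m + n))).trans ?_) _
      rw [Ideal.map_pow, Ideal.map_map, hspan, Ideal.map_sup, show (Ideal.Quotient.mk J).comp (algebraMap A R) = algebraMap A (R ⧸ J) from rfl]
      refine (Ideal.sup_pow_add_le_pow_sup_pow).trans (sup_le ?_ le_rfl)
      rw [Ideal.map_span, Set.image_singleton, Ideal.span_singleton_pow, Ideal.span_le, Set.singleton_subset_iff]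
      rw [show algebraMap A (R ⧸ J) f ^ m = Ideal.Quotient.mk J (algebraMap A R f ^ m) by rw [map_pow]; rfl,
        Ideal.Quotient.eq_zero_iff_mem.2 (Ideal.mem_span_singleton_self _)]
      exact Ideal.zero_mem _
    rw [List.length_cons, pow_succ, pow_mul, ← le_bot_iff, ← hFF]
    exact Ideal.pow_right_mono hle 2

theorem exists_inverse_one_sub {f : A} (h : Function.Bijective (tel f A)) : IsUnit (1 - f) := by
  obtain ⟨x, hx⟩ := h.2 fun _ => 1
  have hsh : (fun i => x (i + 1)) = x := h.1 (funext fun i => by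
    rw [congrFun hx i]; exact congrFun hx (i + 1))
  have h0 := congrFun hx 0
  rw [tel_apply, congrFun hsh 0, smul_eq_mul] at h0
  exact isUnit_iff_exists_inv.2 ⟨x 0, by linear_combination h0⟩

theorem henselianRing_of_bijective (I : Ideal A) (hc : ∀ f ∈ I, Function.Bijective (tel f A)) : HenselianRing A I := by
  have hjac : I ≤ Ideal.jacobson ⊥ := fun a ha => Ideal.mem_jacobson_bot.2 fun y => by
    have := exists_inverse_one_sub (hc _ (I.neg_mem (I.mul_mem_right y ha)))
    rwa [sub_neg_eq_add, add_comm] at this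
  refine ⟨hjac, fun P _ a₀ ha₀ hu => ?_⟩
  set g := P.eval a₀
  set J := Ideal.span {g}
  have hJI : J ≤ I := (Ideal.span_singleton_le_iff_mem I).2 ha₀
  have hd : IsUnit (P.derivative.eval a₀) := by
    obtain ⟨v, hv⟩ := Ideal.Quotient.mk_surjective (↑hu.unit⁻¹ : A ⧸ I)
    have h1 : 1 - P.derivative.eval a₀ * v ∈ I := by
      rw [← Ideal.Quotient.eq, map_mul, hv, map_one]
      exact hu.mul_val_inv.symm
    have := exists_inverse_one_sub (hc _ h1)
    rw [sub_sub_cancel] at this
    exact isUnit_of_mul_isUnit_left this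
  -- Newton approximation
  have hu' : ∀ b, b - a₀ ∈ I → IsUnit (P.derivative.eval b) := fun b hb => by
    have hdiff : P.derivative.eval b - P.derivative.eval a₀ ∈ I := by
      obtain ⟨c, hc'⟩ := (Polynomial.sub_dvd_eval_sub b a₀ P.derivative)
      rw [hc']
      exact I.mul_mem_right _ hb
    obtain ⟨w, hw⟩ := isUnit_iff_exists_inv.1 hd
    have := exists_inverse_one_sub (hc _ (I.neg_mem (I.mul_mem_right w hdiff)))
    rw [sub_neg_eq_add, ← hw, ← add_mul, add_sub_cancel] at this
    exact isUnit_of_mul_isUnit_left this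
  have step : ∀ (n : ℕ) (b : A), b - a₀ ∈ J → P.eval b ∈ J ^ (n + 1) →
      ∃ b', b' - b ∈ J ^ (n + 1) ∧ P.eval b' ∈ J ^ (n + 1 + 1) := by
    intro n b hb hPb
    obtain ⟨w, hw⟩ := isUnit_iff_exists_inv.1 (hu' b (hJI hb))
    refine ⟨b + -(P.eval b * w), by simpa using (J ^ (n + 1)).mul_mem_right w hPb, ?_⟩
    obtain ⟨c, hc'⟩ := Polynomial.binomExpansion P b (-(P.eval b * w))
    rw [hc', show P.eval b + P.derivative.eval b * -(P.eval b * w) + c * (-(P.eval b * w)) ^ 2
      = P.eval b * (1 - P.derivative.eval b * w) + c * w ^ 2 * P.eval b ^ 2 by ring, hw, sub_self, mul_zero, zero_add]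
    refine Ideal.mul_mem_left _ _ (Ideal.pow_le_pow_right (by omega : n + 1 + 1 ≤ (n + 1) * 2) ?_)
    rw [pow_mul]
    exact Ideal.pow_mem_pow hPb 2
  choose! nxt hnx hnx' using step
  let b : ℕ → A := fun k => Nat.rec a₀ (fun k c => nxt k c) k
  have hb : ∀ k, b k - a₀ ∈ J ∧ P.eval (b k) ∈ J ^ (k + 1) := by
    intro k
    induction k with
    | zero => exact ⟨by simp [b], by rw [pow_one]; exact Ideal.mem_span_singleton_self g⟩
    | succ k ih =>
      refine ⟨?_, hnx' k _ ih.1 ih.2⟩
      have := J.add_mem (Ideal.pow_le_self (Nat.succ_ne_zero k) (hnx k _ ih.1 ih.2)) ih.1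
      rwa [sub_add_sub_cancel] at this
  haveI := isPrecomplete_of_bijective (I := J) [g] (by simp [J]) (fun f hf => hc f (by
    rw [List.mem_singleton] at hf; exact hf ▸ ha₀))
  obtain ⟨β, hβ⟩ : ∃ β, ∀ n, b n ≡ β [SMOD (J ^ n • ⊤ : Submodule A A)] := by
    refine IsPrecomplete.prec (inferInstance : IsPrecomplete J A) fun {m n} hmn => ?_
    rw [SModEq.sub_mem, smul_eq_mul, Ideal.mul_top]
    induction n, hmn using Nat.le_induction with
    | base => simp
    | succ n hmn ih =>
      have h := Ideal.pow_le_pow_right (Nat.le_succ_of_le hmn) (hnx n _ (hb n).1 (hb n).2)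
      have := (J ^ m).sub_mem ih h
      rwa [sub_sub, add_sub_cancel] at this
  have hβ' : ∀ n, b n - β ∈ J ^ n := fun n => by
    have := SModEq.sub_mem.1 (hβ n)
    rwa [smul_eq_mul, Ideal.mul_top] at this
  have hβJ : β - a₀ ∈ J := by
    have h := J.sub_mem (hb 1).1 (pow_one J ▸ hβ' 1)
    rwa [sub_sub_sub_cancel_left] at h
  have hPβ : ∀ n, P.eval β ∈ J ^ n := fun n => by
    obtain ⟨c, hc'⟩ := Polynomial.sub_dvd_eval_sub (b n) β P
    have h1 : P.eval (b n) - P.eval β ∈ J ^ n := hc' ▸ (J ^ n).mul_mem_right c (hβ' n)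
    have := (J ^ n).sub_mem (Ideal.pow_le_pow_right n.le_succ (hb n).2) h1
    rwa [sub_sub_cancel] at this
  have hsq : P.eval β * P.eval β = 0 := by
    have h2 : P.eval β * P.eval β ∈ (⨅ n : ℕ, Ideal.span {g ^ n}) • (⨅ n : ℕ, Ideal.span {g ^ n} • (⊤ : Submodule A A)) := by
      have h : ∀ n, P.eval β ∈ Ideal.span {g ^ n} := fun n => Ideal.span_singleton_pow g n ▸ hPβ n
      refine Submodule.smul_mem_smul ((Submodule.mem_iInf _).2 h) ((Submodule.mem_iInf _).2 fun n => ?_)
      rw [smul_eq_mul, Ideal.mul_top]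
      exact h n
    rw [mul_iInf_eq_bot (hc g ha₀).1] at h2
    exact (Submodule.mem_bot A).1 h2
  obtain ⟨w, hw⟩ := isUnit_iff_exists_inv.1 (hu' β (hJI hβJ))
  refine ⟨β + -(P.eval β * w), ?_, ?_⟩
  · obtain ⟨c, hc'⟩ := Polynomial.binomExpansion P β (-(P.eval β * w))
    rw [Polynomial.IsRoot.def, hc', show P.eval β + P.derivative.eval β * -(P.eval β * w) + c * (-(P.eval β * w)) ^ 2
      = P.eval β * (1 - P.derivative.eval β * w) + c * w ^ 2 * (P.eval β * P.eval β) by ring, hw, hsq]
    ring
  · rw [add_sub_right_comm]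
    exact I.add_mem (hJI hβJ) (I.neg_mem (I.mul_mem_right w (hJI (by simpa using hPβ 1))))

end Groth.Agent.DRingComplete
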