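import Groth.Agent.DRingComplete.Closure
import Groth.Agent.DRingKProj.Derived
import Groth.Agent.PCExt.Basic
import Groth.Agent.FlatComplex.Elementwise
import Mathlib.Algebra.Homology.DerivedCategory.Linear

/-!
# Objects on which `f` is invertible are left orthogonal to `f`-complete objects
-/

universe u

open CategoryTheory Limits

namespace Groth.Agent.DRingComplete

attribute [local instance] HasDerivedCategory.standard

set_option linter.style.haveILetI false

variable {A : Type u} [CommRing A] (f : A)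

/-- The complex of sequences. -/
noncomputable def seqCx (K : DRing.Cx A) : DRing.Cx A where
  X i := ModuleCat.of A (ℕ → K.X i)
  d i j := ModuleCat.ofHom ((K.d i j).hom.compLeft ℕ)
  shape i j h := ModuleCat.hom_ext (LinearMap.ext fun x => funext fun n => by
    show K.d i j (x n) = 0
    rw [K.shape i j h]; rfl)
  d_comp_d' i j k _ _ := ModuleCat.hom_ext (LinearMap.ext fun x => funext fun n => by
    show K.d j k (K.d i j (x n)) = 0
    rw [← ModuleCat.comp_apply, K.d_comp_d]; rfl)

/-- The telescope map on sequences. -/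
noncomputable def telCx (K : DRing.Cx A) : seqCx K ⟶ seqCx K where
  f i := ModuleCat.ofHom (tel f (K.X i))
  comm' i j _ := ModuleCat.hom_ext (LinearMap.ext fun x => funext fun n => by
    show K.d i j (x n - f • x (n + 1)) = K.d i j (x n) - f • K.d i j (x (n + 1))
    rw [map_sub, map_smul])

/-- A projection. -/
noncomputable def seqProj (K : DRing.Cx A) (n : ℕ) : seqCx K ⟶ K where
  f i := ModuleCat.ofHom (LinearMap.proj n)
  comm' _ _ _ := rfl

theorem quasiIso_telCx {K : DRing.Cx A}
    (h : ∀ i, Function.Bijective (tel f (Dual.HD A (DRing.toD K) i))) : QuasiIso (telCx f K) := by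
  refine ⟨fun i => ?_⟩
  rw [quasiIsoAt_iff' (telCx f K) (i - 1) i (i + 1) (by simp) (by simp), ShortComplex.quasiIso_iff,
    ConcreteCategory.isIso_iff_bijective]
  let S := K.sc' (i - 1) i (i + 1)
  let e : Dual.HD A (DRing.toD K) i ≃ₗ[A] S.homology :=
    ((DerivedCategory.homologyFunctorFactors (ModuleCat.{u} A) i).app K ≪≫
      K.homologyIsoSc' (i - 1) i (i + 1) (by simp) (by simp)).toLinearEquiv
  have hb : Function.Bijective (tel f S.homology) := tel_linearEquiv e f (h i)
  let p : LinearMap.ker S.g.hom →ₗ[A] S.homology := S.homologyπ.hom ∘ₗ S.moduleCatCyclesIso.inv.hom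
  have hp : Function.Surjective p := fun y => by
    obtain ⟨x, hx, rfl⟩ := FlatComplex.cls_surjective y
    exact ⟨⟨x, hx⟩, rfl⟩
  have hp0 : ∀ x y, p x = p y ↔ ∃ w, (x : S.X₂) - y = S.f w := fun x y =>
    FlatComplex.cls_eq_cls_iff x.1 y.1 x.2 y.2
  constructor
  · refine (FlatComplex.homologyMap_injective_iff _).2 fun (x : ℕ → K.X i) hx ⟨w, hw⟩ => ?_
    change ℕ → K.X (i - 1) at w
    let c : ℕ → LinearMap.ker S.g.hom := fun n => ⟨x n, congrFun hx n⟩
    have h0 : tel f S.homology (fun n => p (c n)) = 0 := funext fun n => by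
      show p (c n) - f • p (c (n + 1)) = 0
      rw [← map_smul, ← map_sub, ← map_zero p, hp0]
      refine ⟨w n, ?_⟩
      show (x n - f • x (n + 1)) - 0 = _
      rw [sub_zero]
      exact congrFun hw n
    have hz := hb.1 (h0.trans (map_zero _).symm)
    choose v hv using fun n => (hp0 (c n) 0).1 ((congrFun hz n).trans (map_zero p).symm)
    exact ⟨v, funext fun n => (sub_zero (x n)).symm.trans (hv n)⟩
  · refine (FlatComplex.homologyMap_surjective_iff _).2 fun (z : ℕ → K.X i) hz => ?_
    let c : ℕ → LinearMap.ker S.g.hom := fun n => ⟨z n, congrFun hz n⟩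
    obtain ⟨a, ha⟩ := hb.2 fun n => p (c n)
    choose x hx using fun n => hp (a n)
    have key : ∀ n, ∃ w, ((x n : S.X₂) - f • (x (n + 1) : S.X₂)) - (show S.X₂ from z n) = S.f w := fun n => by
      refine (hp0 (x n - f • x (n + 1)) (c n)).1 ?_
      rw [map_sub, map_smul, hx, hx]
      exact congrFun ha n
    choose w hw using key
    exact ⟨fun n => (x n).1, funext fun n => (x n).2, w, funext hw⟩

/-- `f` invertible on `L` and `f`-complete `M`: no maps. -/
theorem subsingleton_hom_of_isIso_smul (L M : Dual.D A) [IsIso (f • 𝟙 L)]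
    (h : ∀ i, Function.Bijective (tel f (Dual.HD A M i))) : Subsingleton (L ⟶ M) := by
  refine subsingleton_of_forall_eq 0 fun φ => ?_
  let M₀ := DerivedCategory.Q.objPreimage M
  let eM : DRing.toD M₀ ≅ M := DerivedCategory.Q.objObjPreimageIso M
  obtain ⟨P, π, hP, hπ, -⟩ := DRingKProj.exists_resolution (DerivedCategory.Q.objPreimage L)
  haveI := hP
  haveI : IsIso (DerivedCategory.Q.map π) := (DerivedCategory.isIso_Q_map_iff_quasiIso _ π).2 hπ
  let eL : DRing.toD P ≅ L := asIso (DerivedCategory.Q.map π) ≪≫ DerivedCategory.Q.objObjPreimageIso L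
  let s := inv (f • 𝟙 L)
  let φn : ℕ → (L ⟶ M) := fun n => Nat.rec φ (fun _ ψ => s ≫ ψ) n
  have hφn : ∀ n, φn n = f • φn (n + 1) := fun n => by
    show φn n = f • (s ≫ φn n)
    calc φn n = ((f • 𝟙 L) ≫ s) ≫ φn n := by rw [IsIso.hom_inv_id, Category.id_comp]
      _ = f • (s ≫ φn n) := by rw [Linear.smul_comp, Category.id_comp, Linear.smul_comp]
  choose g hg using fun n => PCExt.Q_map_surjective_of_isKProjective P M₀ (eL.hom ≫ φn n ≫ eM.inv)
  have hh : ∀ n, ∃ H : Homotopy (g n - f • g (n + 1)) 0, True := fun n => by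
    refine ⟨HomotopyCategory.homotopyOfEq _ _ ?_, trivial⟩
    rw [Functor.map_zero, ← PCExt.Q_map_eq_zero_iff_of_isKProjective, Functor.map_sub, Functor.map_smul,
      show DerivedCategory.Q.map (g n) = _ from hg n, show DerivedCategory.Q.map (g (n + 1)) = _ from hg (n + 1),
      hφn n]
    simp
  choose H hH using hh
  let Γ : P ⟶ seqCx M₀ :=
    { f := fun i => ModuleCat.ofHom (LinearMap.pi fun n => ((g n).f i).hom)
      comm' := fun i j _ => ModuleCat.hom_ext (LinearMap.ext fun x => funext fun n =>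
        LinearMap.congr_fun (congrArg ModuleCat.Hom.hom ((g n).comm i j)) x) }
  have hT : Homotopy (Γ ≫ telCx f M₀) 0 :=
    { hom := fun i j => ModuleCat.ofHom (LinearMap.pi fun n => ((H n).hom i j).hom)
      zero := fun i j hij => ModuleCat.hom_ext (LinearMap.ext fun x => funext fun n =>
        LinearMap.congr_fun (congrArg ModuleCat.Hom.hom ((H n).zero i j hij)) x)
      comm := fun i => by
        refine ModuleCat.hom_ext (LinearMap.ext fun x => funext fun n => ?_)
        have hc := LinearMap.congr_fun (congrArg ModuleCat.Hom.hom ((H n).comm i)) x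
        rw [dNext_eq _ (show (ComplexShape.up ℤ).Rel i (i + 1) from rfl),
          prevD_eq _ (show (ComplexShape.up ℤ).Rel (i - 1) i by simp)] at hc ⊢
        exact hc }
  haveI := quasiIso_telCx f (K := M₀) fun i => tel_linearEquiv
    ((DerivedCategory.homologyFunctor (ModuleCat.{u} A) i).mapIso eM).toLinearEquiv.symm f (h i)
  haveI : IsIso (DerivedCategory.Q.map (telCx f M₀)) :=
    (DerivedCategory.isIso_Q_map_iff_quasiIso _ _).2 inferInstance
  have h0 : DerivedCategory.Q.map Γ = 0 := by
    rw [← cancel_mono (DerivedCategory.Q.map (telCx f M₀)), ← Functor.map_comp,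
      DerivedCategory.Q_map_eq_of_homotopy (ModuleCat.{u} A) hT, Functor.map_zero, zero_comp]
  have h1 : DerivedCategory.Q.map (g 0) = 0 := by
    rw [show g 0 = Γ ≫ seqProj M₀ 0 from rfl, Functor.map_comp, h0, zero_comp]
  have h2 := (hg 0).symm.trans h1
  rwa [Preadditive.IsIso.comp_left_eq_zero, Preadditive.IsIso.comp_right_eq_zero] at h2

theorem isIso_smul_toD (C : DRing.Cx A) (hC : ∀ i, Function.Bijective (fun x : C.X i => f • x)) :
    IsIso (f • 𝟙 (DRing.toD C)) := by
  haveI : ∀ i, IsIso ((f • 𝟙 C : C ⟶ C).f i) := fun i => by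
    rw [ConcreteCategory.isIso_iff_bijective]
    exact hC i
  haveI : IsIso (f • 𝟙 C : C ⟶ C) := HomologicalComplex.Hom.isIso_of_components _
  rw [show f • 𝟙 (DRing.toD C) = DerivedCategory.Q.map (f • 𝟙 C) by
    rw [Functor.map_smul, CategoryTheory.Functor.map_id]]
  infer_instance

theorem isIso_smul_of_iso {X Y : Dual.D A} (e : X ≅ Y) [IsIso (f • 𝟙 X)] : IsIso (f • 𝟙 Y) := by
  rw [show f • 𝟙 Y = e.inv ≫ (f • 𝟙 X) ≫ e.hom by
    rw [Linear.smul_comp, Linear.comp_smul, Category.id_comp, Iso.inv_hom_id]]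
  infer_instance

end Groth.Agent.DRingComplete
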