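import Groth.Agent.DRingComplete.Orth
import Groth.Agent.DRingComplete.Nakayama
import Groth.Agent.DRingKProj.ConeElem

/-!
# Derived completion by telescopes
-/

universe u

open CategoryTheory Limits Pretriangulated CochainComplex

namespace Groth.Agent.DRingComplete

attribute [local instance] HasDerivedCategory.standard

set_option linter.style.haveILetI false

open Groth.Agent.DRingKProj

variable {A : Type u} [CommRing A]

/-- The cycles of degree `i`. -/
abbrev Cyc (C : DRing.Cx A) (i : ℤ) : Submodule A (C.X i) := LinearMap.ker (C.d i (i + 1)).hom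

/-- The homology class of a cycle. -/
noncomputable def hcls (C : DRing.Cx A) (i : ℤ) :
    Cyc C i →ₗ[A] (C.sc' (i - 1) i (i + 1)).homology :=
  (C.sc' (i - 1) i (i + 1)).homologyπ.hom ∘ₗ (C.sc' (i - 1) i (i + 1)).moduleCatCyclesIso.inv.hom

theorem hcls_surjective (C : DRing.Cx A) (i : ℤ) : Function.Surjective (hcls C i) := fun y => by
  obtain ⟨x, hx, rfl⟩ := FlatComplex.cls_surjective y
  exact ⟨⟨x, hx⟩, rfl⟩

theorem hcls_eq_iff (C : DRing.Cx A) (i : ℤ) (x y : Cyc C i) :
    hcls C i x = hcls C i y ↔ ∃ w : C.X (i - 1), x.1 - y.1 = C.d (i - 1) i w :=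
  FlatComplex.cls_eq_cls_iff (S := C.sc' (i - 1) i (i + 1)) x.1 y.1 x.2 y.2

theorem hcls_eq_zero_iff (C : DRing.Cx A) (i : ℤ) (x : Cyc C i) :
    hcls C i x = 0 ↔ ∃ w : C.X (i - 1), x.1 = C.d (i - 1) i w := by
  rw [← map_zero (hcls C i), hcls_eq_iff]
  simp

/-- `f`-completeness of a complex, on homology. -/
def CompCx (f : A) (C : DRing.Cx A) : Prop :=
  ∀ i, Function.Bijective (tel f (C.sc' (i - 1) i (i + 1)).homology)

noncomputable def hdEquiv (C : DRing.Cx A) (i : ℤ) :
    Dual.HD A (DRing.toD C) i ≃ₗ[A] (C.sc' (i - 1) i (i + 1)).homology :=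
  ((DerivedCategory.homologyFunctorFactors (ModuleCat.{u} A) i).app C ≪≫
    C.homologyIsoSc' (i - 1) i (i + 1) (by simp) (by simp)).toLinearEquiv

theorem compCx_iff (f : A) (C : DRing.Cx A) :
    CompCx f C ↔ ∀ i, Function.Bijective (tel f (Dual.HD A (DRing.toD C) i)) :=
  ⟨fun h i => tel_linearEquiv (hdEquiv C i).symm f (h i), fun h i => tel_linearEquiv (hdEquiv C i) f (h i)⟩

theorem isDerivedComplete_span (s : Set A) (C : DRing.Cx A) (h : ∀ f ∈ s, CompCx f C) :
    DRing.IsDerivedComplete (Ideal.span s) (DRing.toD C) := by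
  rw [isDerivedComplete_iff_homology]
  intro f hf i
  have : Ideal.span s ≤ completeIdeal (Dual.HD A (DRing.toD C) i) :=
    Ideal.span_le.2 fun g hg => mem_completeIdeal.2 ((compCx_iff g C).1 (h g hg) i)
  exact mem_completeIdeal.1 (this hf)

/-! ### Sequences -/

section Seq

variable (f : A) (K : DRing.Cx A)

/-- Shift right by one place. -/
def shR (M : Type u) [AddCommGroup M] [Module A M] : (ℕ → M) →ₗ[A] (ℕ → M) where
  toFun x n := match n with
    | 0 => 0
    | n + 1 => x n
  map_add' x y := funext fun n => by cases n <;> simp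
  map_smul' r x := funext fun n => by cases n <;> simp

/-- Shift left by one place. -/
def shL (M : Type u) [AddCommGroup M] [Module A M] : (ℕ → M) →ₗ[A] (ℕ → M) where
  toFun x n := x (n + 1)
  map_add' _ _ := rfl
  map_smul' _ _ := rfl

/-- The right shift on complexes. -/
noncomputable def shRCx : seqCx K ⟶ seqCx K where
  f i := ModuleCat.ofHom (shR (K.X i))
  comm' i j _ := ModuleCat.hom_ext (LinearMap.ext fun x => funext fun n => by
    cases n with
    | zero => exact map_zero (K.d i j).hom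
    | succ n => rfl)

/-- The left shift on complexes. -/
noncomputable def shLCx : seqCx K ⟶ seqCx K where
  f i := ModuleCat.ofHom (shL (K.X i))
  comm' _ _ _ := rfl

/-- `t - f` on `K[[t]]`. -/
noncomputable def thCx : seqCx K ⟶ seqCx K := shRCx K - f • 𝟙 (seqCx K)

theorem thCx_apply (i : ℤ) (x : ℕ → K.X i) : (thCx f K).f i x = shR (A := A) (K.X i) x - f • x := rfl

theorem telCx_apply (i : ℤ) (x : ℕ → K.X i) : (telCx f K).f i x = x - f • shL (A := A) (K.X i) x := rfl

/-- The series `Σ τᵏ z (n + k)`, coordinatewise. -/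
def series {M : Type u} [AddCommGroup M] (z : ℕ → ℕ → M) : ℕ → ℕ → M :=
  fun n m => Nat.rec (motive := fun _ => ℕ → M) (fun n => z n 0) (fun m p n => z n (m + 1) + p (n + 1)) m n

theorem series_eq {M : Type u} [AddCommGroup M] [Module A M] (z : ℕ → ℕ → M) (n : ℕ) :
    series z n = z n + shR (A := A) M (series z (n + 1)) := by
  funext m
  cases m with
  | zero => exact (add_zero _).symm
  | succ m => rfl

theorem series_unique {M : Type u} [AddCommGroup M] [Module A M] (s : ℕ → ℕ → M)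
    (h : ∀ n, s n = shR (A := A) M (s (n + 1))) : ∀ n, s n = 0 := by
  have : ∀ m n, s n m = 0 := by
    intro m
    induction m with
    | zero => exact fun n => congrFun (h n) 0
    | succ m ih => exact fun n => (congrFun (h n) (m + 1)).trans (ih (n + 1))
  exact fun n => funext fun m => this m n

theorem seqCx_exactAt {i : ℤ} (h : K.ExactAt i) : (seqCx K).ExactAt i := by
  rw [DRingTorAmp.exact_d_iff _ (i - 1) i (i + 1) (by omega) rfl] at h ⊢
  intro x
  constructor
  · intro hx
    choose w hw using fun n => (h (x n)).1 (congrFun hx n)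
    exact ⟨w, funext hw⟩
  · rintro ⟨w, rfl⟩
    exact funext fun n => h.apply_apply_eq_zero (w n)

theorem compCx_seq {g : A} (h : CompCx g K) : CompCx g (seqCx K) := by
  intro i
  let T := seqCx K
  refine ⟨(injective_iff_map_eq_zero _).2 fun a ha => ?_, fun a => ?_⟩
  · choose z hz using fun n => hcls_surjective T i (a n)
    have hcyc : ∀ n m, (z n).1 m ∈ Cyc K i := fun n m => congrFun (z n).2 m
    have h0 : ∀ m, (fun n => hcls K i ⟨_, hcyc n m⟩) = 0 := fun m => (h i).1 (by
      rw [map_zero]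
      funext n
      show hcls K i _ - g • hcls K i _ = 0
      rw [← map_smul, ← map_sub, hcls_eq_zero_iff]
      have h1 := congrFun ha n
      rw [tel_apply, ← hz, ← hz, ← map_smul, ← map_sub] at h1
      obtain ⟨w, hw⟩ := (hcls_eq_zero_iff T i _).1 h1
      exact ⟨w m, congrFun hw m⟩)
    funext n
    rw [← hz]
    choose v hv using fun m => (hcls_eq_zero_iff K i _).1 (congrFun (h0 m) n)
    exact (hcls_eq_zero_iff T i _).2 ⟨v, funext hv⟩
  · choose z hz using fun n => hcls_surjective T i (a n)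
    have hcyc : ∀ n m, (z n).1 m ∈ Cyc K i := fun n m => congrFun (z n).2 m
    choose b hb using fun m => (h i).2 fun n => hcls K i ⟨_, hcyc n m⟩
    choose y hy using fun m n => hcls_surjective K i (b m n)
    refine ⟨fun n => hcls T i ⟨fun m => (y m n).1, funext fun m => (y m n).2⟩, funext fun n => ?_⟩
    rw [tel_apply, ← map_smul, ← map_sub, ← hz, hcls_eq_iff]
    have h1 : ∀ m, hcls K i (y m n - g • y m (n + 1)) = hcls K i ⟨_, hcyc n m⟩ := fun m => by
      rw [map_sub, map_smul, hy, hy]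
      exact congrFun (hb m) n
    choose w hw using fun m => (hcls_eq_iff K i _ _).1 (h1 m)
    exact ⟨w, funext hw⟩

end Seq

/-! ### Cones of endomorphisms -/

section Cone

variable {F G : DRing.Cx A} (φ : F ⟶ G) {F' G' : DRing.Cx A} (φ' : F' ⟶ G')

theorem cmk_ext {i j : ℤ} (h : i + 1 = j) {c c' : (mappingCone φ).X i}
    (h1 : cfst φ i j h c = cfst φ i j h c') (h2 : csnd φ i c = csnd φ i c') : c = c' :=
  sub_eq_zero.1 (cone_ext φ i j h _ (by rw [map_sub, h1, sub_self]) (by rw [map_sub, h2, sub_self]))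

/-- The map of cones given on components. -/
noncomputable def mapC (a : F ⟶ F') (b : G ⟶ G') (hab : φ ≫ b = a ≫ φ') : mappingCone φ ⟶ mappingCone φ' where
  f i := ModuleCat.ofHom (((mappingCone.inl φ').v (i + 1) i (by omega)).hom ∘ₗ (a.f (i + 1)).hom ∘ₗ cfst φ i (i + 1) rfl +
    ((mappingCone.inr φ').f i).hom ∘ₗ (b.f i).hom ∘ₗ csnd φ i)
  comm' := by
    rintro i _ rfl
    refine ModuleCat.hom_ext (LinearMap.ext fun c => ?_)
    show (mappingCone φ').d i (i + 1) (cmk φ' i (i + 1) rfl (a.f (i + 1) (cfst φ i (i + 1) rfl c)) (b.f i (csnd φ i c))) =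
      cmk φ' (i + 1) (i + 1 + 1) rfl (a.f (i + 1 + 1) (cfst φ (i + 1) (i + 1 + 1) rfl ((mappingCone φ).d i (i + 1) c)))
        (b.f (i + 1) (csnd φ (i + 1) ((mappingCone φ).d i (i + 1) c)))
    refine cmk_ext φ' rfl ?_ ?_
    · rw [cfst_d φ' i (i + 1) (i + 1 + 1) rfl rfl, cfst_cmk, cfst_cmk, cfst_d φ i (i + 1) (i + 1 + 1) rfl rfl, map_neg]
      exact congrArg Neg.neg (ConcreteCategory.congr_hom (a.comm (i + 1) (i + 1 + 1)) _)
    · rw [csnd_d φ' i (i + 1) rfl, cfst_cmk, csnd_cmk, csnd_cmk, csnd_d φ i (i + 1) rfl, map_add]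
      exact congrArg₂ (· + ·) (ConcreteCategory.congr_hom (congrArg (fun k => HomologicalComplex.Hom.f k (i + 1)) hab.symm) _)
        (ConcreteCategory.congr_hom (b.comm i (i + 1)) _)

variable {φ φ'} {a : F ⟶ F'} {b : G ⟶ G'} (hab : φ ≫ b = a ≫ φ')

theorem cfst_mapC (i j : ℤ) (h : i + 1 = j) (c : (mappingCone φ).X i) :
    cfst φ' i j h ((mapC φ φ' a b hab).f i c) = a.f j (cfst φ i j h c) := by
  subst h
  exact cfst_cmk φ' i (i + 1) rfl _ _

theorem csnd_mapC (i : ℤ) (c : (mappingCone φ).X i) :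
    csnd φ' i ((mapC φ φ' a b hab).f i c) = b.f i (csnd φ i c) :=
  csnd_cmk φ' i (i + 1) rfl _ _

/-- A cycle is moved by `φ` on both components to a boundary. -/
theorem exists_boundary {φ : F ⟶ F} (i : ℤ) (c : (mappingCone φ).X i) (hc : (mappingCone φ).d i (i + 1) c = 0) :
    ∃ w : (mappingCone φ).X (i - 1), ∀ c' : (mappingCone φ).X i,
      cfst φ i (i + 1) rfl c' = φ.f (i + 1) (cfst φ i (i + 1) rfl c) → csnd φ i c' = φ.f i (csnd φ i c) →
        c' = (mappingCone φ).d (i - 1) i w := by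
  refine ⟨cmk φ (i - 1) i (by omega) (csnd φ i c) 0, fun c' h1 h2 => cmk_ext φ rfl ?_ ?_⟩
  · rw [h1, cfst_d φ (i - 1) i (i + 1) (by omega) rfl, cfst_cmk, ← add_eq_zero_iff_eq_neg]
    exact ((cone_d_eq_zero_iff φ i (i + 1) rfl c).1 hc).2
  · rw [h2, csnd_d φ (i - 1) i (by omega), cfst_cmk, csnd_cmk, map_zero, add_zero]

end Cone

variable (f : A) (K : DRing.Cx A)

/-- The derived completion at one element. -/
noncomputable abbrev complCx : DRing.Cx A := mappingCone (thCx f K)

/-- The constant series. -/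
noncomputable def zeroCoord : K ⟶ seqCx K where
  f i := ModuleCat.ofHom (LinearMap.single A (fun _ : ℕ => (K.X i : Type u)) 0)
  comm' i j _ := ModuleCat.hom_ext (LinearMap.ext fun x => funext fun n => by
    show K.d i j (Pi.single (M := fun _ : ℕ => (K.X i : Type u)) 0 x n) = Pi.single (M := fun _ : ℕ => (K.X j : Type u)) 0 (K.d i j x) n
    cases n with
    | zero => rfl
    | succ n =>
      rw [Pi.single_eq_of_ne (by omega), Pi.single_eq_of_ne (by omega)]
      exact map_zero (K.d i j).hom)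

/-- `K ⟶ K^` at one element. -/
noncomputable def complη : K ⟶ complCx f K := zeroCoord K ≫ mappingCone.inr (thCx f K)

theorem compCx_compl : CompCx f (complCx f K) := by
  intro i
  let C := complCx f K
  let φ := thCx f K
  have hτ : φ ≫ shRCx K = shRCx K ≫ φ := by
    show (shRCx K - f • 𝟙 _) ≫ shRCx K = shRCx K ≫ (shRCx K - f • 𝟙 _)
    simp [Preadditive.sub_comp, Preadditive.comp_sub]
  let τ : C ⟶ C := mapC φ φ (shRCx K) (shRCx K) hτ
  have hτcyc : ∀ c : Cyc C i,
      τ.f i c.1 ∈ Cyc C i := fun c => by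
    refine LinearMap.mem_ker.2 ((ConcreteCategory.congr_hom (τ.comm i (i + 1)) c.1).trans ?_)
    show τ.f (i + 1) (C.d i (i + 1) c.1) = 0
    rw [show C.d i (i + 1) c.1 = 0 from c.2]
    exact map_zero _
  have hfτ : ∀ c : Cyc C i, hcls C i ⟨_, hτcyc c⟩ = f • hcls C i c := fun c => by
    obtain ⟨w, hw⟩ := exists_boundary (φ := φ) i c.1 c.2
    rw [← map_smul, hcls_eq_iff]
    refine ⟨w, hw _ ?_ ?_⟩
    · rw [map_sub, cfst_mapC hτ]
      exact congrArg (fun t => (shRCx K).f (i + 1) _ - t) (map_smul _ f _)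
    · rw [map_sub, csnd_mapC hτ]
      exact congrArg (fun t => (shRCx K).f i _ - t) (map_smul _ f _)
  have hsol : ∀ (j : ℤ) (z : ℕ → C.X j), ∃ s : ℕ → C.X j, (∀ n, s n = z n + τ.f j (s (n + 1))) := fun j z => by
    let s1 : ℕ → (seqCx K).X (j + 1) := series (M := K.X (j + 1)) fun n => cfst φ j (j + 1) rfl (z n)
    let s2 : ℕ → (seqCx K).X j := series (M := K.X j) fun n => csnd φ j (z n)
    refine ⟨fun n => cmk φ j (j + 1) rfl (s1 n) (s2 n), fun n => cmk_ext φ rfl ?_ ?_⟩
    · show cfst φ j (j + 1) rfl (cmk φ j (j + 1) rfl (s1 n) (s2 n)) = cfst φ j (j + 1) rfl (z n + τ.f j (cmk φ j (j + 1) rfl (s1 (n + 1)) (s2 (n + 1))))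
      rw [cfst_cmk, map_add, cfst_mapC hτ, cfst_cmk]
      exact series_eq (A := A) (M := K.X (j + 1)) _ n
    · show csnd φ j (cmk φ j (j + 1) rfl (s1 n) (s2 n)) = csnd φ j (z n + τ.f j (cmk φ j (j + 1) rfl (s1 (n + 1)) (s2 (n + 1))))
      rw [csnd_cmk, map_add, csnd_mapC hτ, csnd_cmk]
      exact series_eq (A := A) (M := K.X j) _ n
  have huniq : ∀ (j : ℤ) (s : ℕ → C.X j), (∀ n, s n = τ.f j (s (n + 1))) → ∀ n, s n = 0 := fun j s h n => by
    refine cone_ext φ j (j + 1) rfl _ ?_ ?_
    · exact series_unique (A := A) (M := K.X (j + 1)) (fun n => cfst φ j (j + 1) rfl (s n))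
        (fun n => (congrArg (cfst φ j (j + 1) rfl) (h n)).trans (cfst_mapC hτ _ _ _ _)) n
    · exact series_unique (A := A) (M := K.X j) (fun n => csnd φ j (s n))
        (fun n => (congrArg (csnd φ j) (h n)).trans (csnd_mapC hτ _ _)) n
  refine ⟨(injective_iff_map_eq_zero _).2 fun a ha => funext fun n => ?_, fun a => ?_⟩
  · choose z hz using fun n => hcls_surjective C i (a n)
    have h0 : ∀ n, ∃ w, ((z n).1 : C.X i) - τ.f i (z (n + 1)).1 = C.d (i - 1) i w := fun n =>
      (hcls_eq_iff C i (z n) ⟨_, hτcyc (z (n + 1))⟩).1 (by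
        rw [hfτ, hz, hz, ← sub_eq_zero]
        exact congrFun ha n)
    choose w hw using h0
    obtain ⟨v, hv⟩ := hsol (i - 1) w
    have := huniq i (fun n => ((z n).1 : C.X i) - C.d (i - 1) i (v n)) fun n => by
      rw [map_sub, hv n, map_add, ← hw n, show C.d (i - 1) i (τ.f (i - 1) (v (n + 1))) = τ.f i (C.d (i - 1) i (v (n + 1)))
        from (ConcreteCategory.congr_hom (τ.comm (i - 1) i) (v (n + 1)))]
      abel
    show a n = 0
    rw [← hz, hcls_eq_zero_iff]
    exact ⟨v n, sub_eq_zero.1 (this n)⟩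
  · choose z hz using fun n => hcls_surjective C i (a n)
    obtain ⟨s, hs⟩ := hsol i fun n => (z n).1
    have hcyc : ∀ n, C.d i (i + 1) (s n) = 0 := huniq (i + 1) (fun n => C.d i (i + 1) (s n)) fun n => by
      rw [hs n, map_add, show C.d i (i + 1) (z n).1 = 0 from (z n).2, zero_add]
      exact ConcreteCategory.congr_hom (τ.comm i (i + 1)) (s (n + 1))
    refine ⟨fun n => hcls C i ⟨s n, hcyc n⟩, funext fun n => ?_⟩
    rw [tel_apply, ← hfτ, ← hz, sub_eq_iff_eq_add, ← map_add]
    exact congrArg (hcls C i) (Subtype.ext (hs n))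

theorem compCx_compl_of (g : A) (h : CompCx g K) : CompCx g (complCx f K) := by
  have hs := isDerivedComplete_span {g} (seqCx K) fun g' hg' => by
    rw [Set.mem_singleton_iff.1 hg']
    exact compCx_seq K h
  have := isDerivedComplete_obj₃ _ (DerivedCategory.mappingCone_triangle_distinguished (thCx f K)) hs hs
  exact (compCx_iff g _).2 ((isDerivedComplete_iff_homology _ _).1 this g (Ideal.subset_span rfl))

theorem complCx_exactAt {i : ℤ} (h₀ : K.ExactAt i) (h₁ : K.ExactAt (i + 1)) : (complCx f K).ExactAt i := by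
  have e₀ := (DRingTorAmp.exact_d_iff _ (i - 1) i (i + 1) (by omega) rfl).1 (seqCx_exactAt K h₀)
  have e₁ := (DRingTorAmp.exact_d_iff _ i (i + 1) (i + 1 + 1) rfl rfl).1 (seqCx_exactAt K h₁)
  rw [DRingTorAmp.exact_d_iff _ (i - 1) i (i + 1) (by omega) rfl]
  intro c
  constructor
  · intro hc
    obtain ⟨h1, h2⟩ := (cone_d_eq_zero_iff (thCx f K) i (i + 1) rfl c).1 hc
    obtain ⟨u, hu⟩ := (e₁ _).1 h1
    obtain ⟨v, hv⟩ := (e₀ ((thCx f K).f i u + csnd (thCx f K) i c)).1 (by
      rw [map_add]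
      refine Eq.trans ?_ h2
      rw [show (seqCx K).d i (i + 1) ((thCx f K).f i u) = (thCx f K).f (i + 1) ((seqCx K).d i (i + 1) u) from
        ConcreteCategory.congr_hom ((thCx f K).comm i (i + 1)) u, show (seqCx K).d i (i + 1) u = _ from hu])
    refine ⟨cmk (thCx f K) (i - 1) i (by omega) (-u) v, cmk_ext _ rfl ?_ ?_⟩
    · rw [cfst_d _ (i - 1) i (i + 1) (by omega) rfl, cfst_cmk, map_neg, neg_neg]
      exact hu
    · rw [csnd_d _ (i - 1) i (by omega), cfst_cmk, csnd_cmk, map_neg,
        show (seqCx K).d (i - 1) i v = _ from hv, neg_add_cancel_left]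
  · rintro ⟨w, rfl⟩
    rw [← ModuleCat.comp_apply, HomologicalComplex.d_comp_d]
    rfl

/-- The cokernel of `K ⟶ K^`, on which `f` is invertible. -/
theorem exists_third : ∃ (T : DRing.Cx A) (q : complCx f K ⟶ T) (w : complη f K ≫ q = 0),
    (ShortComplex.mk (complη f K) q w).ShortExact ∧ IsIso (f • 𝟙 (DRing.toD T)) := by
  let φ := thCx f K
  let ψ := telCx f K
  have hq : φ ≫ shLCx K = 𝟙 (seqCx K) ≫ ψ := HomologicalComplex.hom_ext _ _ fun i =>
    ModuleCat.hom_ext (LinearMap.ext fun x => funext fun n => rfl)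
  let q := mapC φ ψ (𝟙 (seqCx K)) (shLCx K) hq
  have w : complη f K ≫ q = 0 := HomologicalComplex.hom_ext _ _ fun i => ModuleCat.hom_ext (LinearMap.ext fun x => by
    refine cone_ext ψ i (i + 1) rfl _ ?_ ?_
    · refine (cfst_mapC hq i (i + 1) rfl _).trans ?_
      have h := congrArg (fun t => t.hom ((zeroCoord K).f i x)) (mappingCone.inr_f_fst_v φ i (i + 1) rfl)
      exact h
    · refine (csnd_mapC hq i _).trans ?_
      have h := congrArg (fun t => t.hom ((zeroCoord K).f i x)) (mappingCone.inr_f_snd_v φ i)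
      refine (congrArg ((shLCx K).f i) h).trans (funext fun n => ?_)
      exact Pi.single_eq_of_ne (M := fun _ : ℕ => (K.X i : Type u)) (Nat.succ_ne_zero n) x)
  refine ⟨mappingCone ψ, q, w, HomologicalComplex.shortExact_of_degreewise_shortExact _ fun i => ?_, ?_⟩
  · have hcη : ∀ x, cfst φ i (i + 1) rfl ((complη f K).f i x) = 0 ∧ csnd φ i ((complη f K).f i x) = (zeroCoord K).f i x :=
      fun x => ⟨congrArg (fun t => t.hom ((zeroCoord K).f i x)) (mappingCone.inr_f_fst_v φ i (i + 1) rfl),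
        congrArg (fun t => t.hom ((zeroCoord K).f i x)) (mappingCone.inr_f_snd_v φ i)⟩
    refine ShortComplex.ShortExact.mk' ((ShortComplex.ShortExact.moduleCat_exact_iff_function_exact _).2 fun c => ⟨fun hc => ?_, ?_⟩)
      ((ModuleCat.mono_iff_injective _).2 fun x y hxy => ?_) ((ModuleCat.epi_iff_surjective _).2 fun c => ?_)
    · change q.f i c = 0 at hc
      have h1 : cfst φ i (i + 1) rfl c = 0 := by
        refine ((cfst_mapC hq i (i + 1) rfl c).symm.trans ?_)
        rw [hc, map_zero]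
      have h2 : (shLCx K).f i (csnd φ i c) = 0 := by
        refine ((csnd_mapC hq i c).symm.trans ?_)
        rw [hc, map_zero]
      refine ⟨csnd φ i c 0, cmk_ext φ rfl ((hcη _).1.trans h1.symm) ((hcη _).2.trans (funext fun n => ?_))⟩
      cases n with
      | zero => exact Pi.single_eq_same (M := fun _ : ℕ => (K.X i : Type u)) 0 _
      | succ n =>
        exact (Pi.single_eq_of_ne (M := fun _ : ℕ => (K.X i : Type u)) (Nat.succ_ne_zero n) (csnd φ i c 0)).trans (congrFun h2 n).symm
    · rintro ⟨x, rfl⟩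
      exact ConcreteCategory.congr_hom (congrArg (fun k => HomologicalComplex.Hom.f k i) w) x
    · have := congrArg (fun c => csnd φ i c) hxy
      have h : (zeroCoord K).f i x = (zeroCoord K).f i y := ((hcη x).2.symm.trans this).trans (hcη y).2
      have h' : Pi.single (M := fun _ : ℕ => (K.X i : Type u)) 0 x 0 = Pi.single (M := fun _ : ℕ => (K.X i : Type u)) 0 y 0 := congrFun h 0
      exact ((Pi.single_eq_same (M := fun _ : ℕ => (K.X i : Type u)) 0 x).symm.trans h').trans (Pi.single_eq_same (M := fun _ : ℕ => (K.X i : Type u)) 0 y)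
    · let u : (seqCx K).X i := fun n => Nat.casesOn n 0 (csnd ψ i c)
      refine ⟨cmk φ i (i + 1) rfl (cfst ψ i (i + 1) rfl c) u, cmk_ext ψ rfl ?_ ?_⟩
      · exact (cfst_mapC hq i (i + 1) rfl _).trans ((congrArg ((𝟙 (seqCx K) : seqCx K ⟶ seqCx K).f (i + 1)) (cfst_cmk φ i (i + 1) rfl (cfst ψ i (i + 1) rfl c) u)).trans rfl)
      · exact (csnd_mapC hq i _).trans ((congrArg ((shLCx K).f i) (csnd_cmk φ i (i + 1) rfl (cfst ψ i (i + 1) rfl c) u)).trans rfl)
  · have hσ : ψ ≫ shLCx K = shLCx K ≫ ψ := HomologicalComplex.hom_ext _ _ fun i =>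
      ModuleCat.hom_ext (LinearMap.ext fun x => funext fun n => rfl)
    let S := mapC ψ ψ (shLCx K) (shLCx K) hσ
    have key : ∀ (i : ℤ) (c : (mappingCone ψ).X i), (mappingCone ψ).d i (i + 1) c = 0 →
        ∃ w, c - f • S.f i c = (mappingCone ψ).d (i - 1) i w := fun i c hc => by
      obtain ⟨w, hw⟩ := exists_boundary (φ := ψ) i c hc
      refine ⟨w, hw _ ?_ ?_⟩
      · rw [map_sub, map_smul, cfst_mapC hσ]
        rfl
      · rw [map_sub, map_smul, csnd_mapC hσ]
        rfl
    let T := mappingCone ψ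
    haveI : QuasiIso (f • 𝟙 T : T ⟶ T) := ⟨fun i => by
      rw [quasiIsoAt_iff' _ (i - 1) i (i + 1) (by simp) (by simp), ShortComplex.quasiIso_iff,
        ConcreteCategory.isIso_iff_bijective]
      refine ⟨(FlatComplex.homologyMap_injective_iff _).2 fun (x : T.X i) hx ⟨w, hw⟩ => ?_,
        (FlatComplex.homologyMap_surjective_iff _).2 fun (z : T.X i) hz => ?_⟩
      · obtain ⟨v, hv⟩ := key i x hx
        refine ⟨v + S.f (i - 1) w, ?_⟩
        show x = T.d (i - 1) i (v + S.f (i - 1) w)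
        rw [map_add, show T.d (i - 1) i (S.f (i - 1) w) = S.f i (T.d (i - 1) i w) from
          ConcreteCategory.congr_hom (S.comm (i - 1) i) w, ← hv,
          show T.d (i - 1) i w = f • x from hw.symm, map_smul]
        abel
      · obtain ⟨v, hv⟩ := key i z hz
        refine ⟨S.f i z, ?_, -v, ?_⟩
        · show T.d i (i + 1) (S.f i z) = 0
          rw [show T.d i (i + 1) (S.f i z) = S.f (i + 1) (T.d i (i + 1) z) from
            ConcreteCategory.congr_hom (S.comm i (i + 1)) z, show T.d i (i + 1) z = 0 from hz, map_zero]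
        · show f • S.f i z - z = T.d (i - 1) i (-v)
          rw [map_neg, ← hv, neg_sub]⟩
    have h1 : f • 𝟙 (DRing.toD T) = DerivedCategory.Q.map (f • 𝟙 T) := by simp
    rw [h1]
    exact (DerivedCategory.isIso_Q_map_iff_quasiIso _ _).2 inferInstance

end Groth.Agent.DRingComplete
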